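import Cfsg.Agent.Lib.Tame.Central

/-!
# Blocks with a quaternion or semidihedral defect group
-/

set_option autoImplicit false
set_option linter.unusedSectionVars false
set_option linter.dupNamespace false

namespace Cfsg.Lib.Tame

open _root_.Cfsg.Lib.Block MonoidAlgebra Cfsg.Lib.Char Cfsg.Lib.Modular Cfsg.Lib.Transfer Subgroup
open Cfsg.Lib.Inv Prs Finset
open scoped ComplexConjugate

variable {G : Type*} [Group G] [Fintype G] {M : Ideal AlgInt} [Modular 2 M]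
  {B : Set (IrrCharacter G)} {ω₀ ω : Prs G 2 M} {a b : G} {μ : ℕ} {ε δ : ℤ} {u v z : ω₀.grp}
  {χ : IrrCharacter G} [Fintype ω₀.grp] (hm : ω₀.IsMax B)
include hm

theorem card_and_heights (h : MC ω₀.grp a b (μ + 2) ε δ) (hz : z = a ^ (2 : ℤ) ^ (μ + 2))
    (h1 : 2 ^ (μ + 2) + blockRank 2 (ω₀.blkAt z) ≤ Nat.card B)
    (h2 : 2 ^ (μ + 2) + 2 ≤ Nat.card B) :
    2 ^ (μ + 2) + 3 ≤ Nat.card B ∧ Nat.card B ≤ 2 ^ (μ + 2) + 2 + blockRank 2 (ω₀.blkAt z) ∧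
      Nat.card {χ : IrrCharacter G // χ ∈ B ∧ blockHeight 2 B χ.1 = 1} = 2 ^ (μ + 2) - 1 ∧
      ∀ χ ∈ B, blockHeight 2 B χ.1 = 0 ∨ blockHeight 2 B χ.1 = 1 ∨ blockHeight 2 B χ.1 = μ + 2 := by
  classical
  obtain ⟨T, U, I, hI, hT, h3, h4, hU, h5⟩ := exists_cols hm h hz
  obtain ⟨α, hα, h6, h7, h8, h9⟩ := exists_alpha hm h (by omega)
  have hk : Nat.card B = #(irrs B) := card_eq_card_filter B
  have h10 : ∀ χ ∈ irrs B, ¬ 2 ∣ co T χ ↔ χ ∈ hzero B := iff_mem_hzero fun χ hχ => by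
    obtain ⟨c, e, hc⟩ := h5 χ hχ
    rw [← Int.dvd_add_left (dvd_mul_of_dvd_left (dvd_pow_self 2 μ.succ_ne_zero) _), e,
      Int.prime_two.dvd_mul, or_iff_left hc]
    exact ⟨fun h => by_contra fun h' => h (dvd_pow_self 2 h'), fun h => by simp [h]⟩
  have h11 : ∀ σ ∈ I, ∀ χ ∈ irrs B, ¬ 2 ∣ co (U σ) χ ↔ χ ∈ hzero B := fun σ hσ χ hχ => by
    rw [← h10 χ hχ]
    have := (hU σ hσ).2.2.2.2 χ
    omega
  have h12 := fun σ hσ => norm_eight hzero_subset h6 (h11 σ hσ) (sum_co_sq (hU σ hσ).1 (hU σ hσ).2.1)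
  have : Nonempty (IrrCharacter G) := ⟨irrOne G⟩
  choose! f hf hf' hf'' using fun σ hσ => (h12 σ hσ).2
  have h13 : ∀ χ ∈ irrs B \ hzero B, ∃ c d : ℤ, co T χ + 2 ^ (μ + 2) * d =
      2 ^ blockHeight 2 B χ.1 * c ∧ ¬ 2 ∣ c := fun χ hχ => by
    obtain ⟨c, e, hc⟩ := h5 χ (mem_irrs.1 (mem_sdiff.1 hχ).1)
    obtain ⟨d, hd⟩ := dvd_sum fun σ hσ => not_not.1
      (mt (h11 σ hσ χ (mem_sdiff.1 hχ).1).1 (mem_sdiff.1 hχ).2)
    exact ⟨c, d, by rw [← e, hd]; ring, hc⟩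
  have h14 : ∀ χ ∈ irrs B, co T χ = 0 → χ ∉ hzero B := fun χ hχ e h' =>
    (h10 χ hχ).2 h' (e ▸ dvd_zero _)
  have h15 : ∀ χ ∈ irrs B, co T χ = 0 → blockHeight 2 B χ.1 = μ + 2 ∧ ∃ σ ∈ I, f σ = χ :=
    fun χ hχ e => by
      have h15 := mem_sdiff.2 ⟨hχ, h14 χ hχ e⟩
      constructor
      · obtain ⟨c, d, e', hc⟩ := h13 χ h15
        have h16 := height_add_two_le hm.blk (mem_irrs.1 hχ) fun h' =>
          h14 χ hχ e (mem_hzero.2 ⟨mem_irrs.1 hχ, h'⟩)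
        rw [Nat.pow_right_injective le_rfl (hm.card_grp.symm.trans h.card_eq)] at h16
        refine le_antisymm (by omega) ((pow_dvd_pow_iff two_ne_zero (by decide)).1
          ((IsCoprime.pow_left ((Int.prime_two.coprime_iff_not_dvd).2 hc)).dvd_of_dvd_mul_right
            ⟨d, by rw [← e', e, zero_add]⟩))
      · by_contra h16
        obtain ⟨c, e', hc⟩ := h5 χ (mem_irrs.1 hχ)
        rw [e, sum_eq_zero fun σ hσ => hf'' σ hσ χ h15 fun h' => h16 ⟨σ, hσ, h'.symm⟩, mul_zero,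
          add_zero, zero_eq_mul] at e'
        exact hc (e'.resolve_left (by positivity) ▸ dvd_zero _)
  have h16 := card_filter_add_card_filter_not (s := irrs B) fun χ => co T χ = 0
  have h17 := (card_le_card (t := I.image f) fun χ hχ => mem_image.2
    (h15 χ (mem_filter.1 hχ).1 (mem_filter.1 hχ).2).2).trans card_image_le
  have h18 : hzero B ⊆ {χ ∈ irrs B | ¬ co T χ = 0} := fun χ hχ =>
    mem_filter.2 ⟨hzero_subset hχ, fun e => h14 χ (hzero_subset hχ) e hχ⟩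
  obtain ⟨h19, h20⟩ | ⟨h19, h20⟩ | h19 := card_cases h18 h6 (fun χ hχ => h10 χ (mem_filter.1 hχ).1)
    (fun χ hχ => (mem_filter.1 hχ).2) (n := 2 ^ (μ + 2)) (by
      rw [sum_filter_of_ne fun χ _ h' => pow_ne_zero_iff two_ne_zero |>.1 h',
        sum_co_sq hT (n := (4 * 2 ^ (μ + 2) : ℕ)) h3]
      simp)
  · have h21 : ∀ χ ∈ {χ ∈ irrs B | ¬ co T χ = 0} \ hzero B, blockHeight 2 B χ.1 = 1 :=
      fun χ hχ => by
        obtain ⟨h21, h22⟩ := mem_sdiff.1 hχ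
        obtain ⟨c, d, e, hc⟩ := h13 χ (mem_sdiff.2 ⟨(mem_filter.1 h21).1, h22⟩)
        have h23 : co T χ = 2 ∨ co T χ = -2 := sq_eq_sq_iff_eq_or_eq_neg.1 (h20 χ hχ)
        rw [show (2 : ℤ) ^ (μ + 2) * d = 4 * (2 ^ μ * d) by ring] at e
        generalize blockHeight 2 B χ.1 = k at e
        obtain _ | _ | k := k
        · rw [pow_zero, one_mul] at e; omega
        · rfl
        · rw [show (2 : ℤ) ^ (k + 1 + 1) * c = 4 * (2 ^ k * c) by ring] at e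
          omega
    refine ⟨by omega, by omega, ?_, fun χ hχ => ?_⟩
    · rw [Nat.card_eq_fintype_card, Fintype.card_of_subtype
        ({χ ∈ irrs B | ¬ co T χ = 0} \ hzero B) fun χ => ⟨fun hχ => ⟨mem_irrs.1
        (mem_filter.1 (mem_sdiff.1 hχ).1).1, h21 χ hχ⟩, fun hχ => mem_sdiff.2 ⟨mem_filter.2
          ⟨mem_irrs.2 hχ.1, fun e => by have := (h15 χ (mem_irrs.2 hχ.1) e).1; omega⟩,
          fun h' => by have := (mem_hzero.1 h').2; omega⟩⟩, card_sdiff_of_subset h18]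
      omega
    · by_cases h22 : χ ∈ hzero B
      · exact Or.inl (mem_hzero.1 h22).2
      by_cases h23 : co T χ = 0
      · exact Or.inr (Or.inr (h15 χ (mem_irrs.2 hχ) h23).1)
      · exact Or.inr (Or.inl (h21 χ (mem_sdiff.2 ⟨mem_filter.2 ⟨mem_irrs.2 hχ, h23⟩, h22⟩)))
  · obtain ⟨χ, hχ⟩ := card_pos.1 (show 0 < #{χ ∈ irrs B | co T χ = 0} by omega)
    obtain ⟨σ, hσ, rfl⟩ := (h15 χ (mem_filter.1 hχ).1 (mem_filter.1 hχ).2).2
    have h21 : ∀ θ, GSpan B θ → (∀ g, θ g ≠ 0 → orderOf (pPart 2 g) = 2) →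
        ∑ χ ∈ hzero B, co θ χ * co α χ = 0 := fun θ hθ h' => by
      rw [sum_subset hzero_subset fun χ h1 h2 => by rw [h8 χ (mem_sdiff.2 ⟨h1, h2⟩), mul_zero]]
      refine sum_co_mul hθ hα.gen (classInner_eq_zero_of_forall (fun g hg => by_contra fun h1 => ?_)
        |>.trans Int.cast_zero.symm)
      have := Nat.pow_right_injective le_rfl
        ((h9 g h1).symm.trans ((h' g hg).trans (pow_one 2).symm))
      omega
    refine (not_twelve h6 (fun χ hχ => (h10 χ (hzero_subset hχ)).2 hχ) h7 (h12 σ hσ).1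
      (h21 T hT h4) (h21 _ (hU σ hσ).1 (hU σ hσ).2.2.2.1) ?_ h20).elim
    rw [sum_subset hzero_subset fun χ h1 h2 => ?_]
    · exact sum_co_mul hT (hU σ hσ).1.gen (hU σ hσ).2.2.1
    · by_cases e : χ = f σ
      · rw [e, (mem_filter.1 hχ).2, zero_mul]
      · rw [hf'' σ hσ χ (mem_sdiff.2 ⟨h1, h2⟩) e, mul_zero]
  · omega

omit hm in
theorem z_mem_invs (h : MC ω₀.grp a b μ ε δ) (hz : z = a ^ (2 : ℤ) ^ μ) : z ∈ invs ω₀ := by
  simp [Subtype.ext_iff, hz, h.z_mul_self, h.z_ne_one]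

omit hm in
theorem exists_of_mem_invs (h : MC ω₀.grp a b μ ε δ) (hz : z = a ^ (2 : ℤ) ^ μ)
    (hv : v ∈ invs ω₀) (h1 : v ≠ z) : ∃ i : ℤ, v = a ^ i * b ∧ 2 ∣ i * ε + δ := by
  simp only [mem_filter_univ] at hv
  obtain ⟨i, hi⟩ := h.exists_refl v.2 fun h2 =>
    h1 (Subtype.ext ((h.eq_z h2 (by simpa using hv.1) hv.2).trans hz.symm))
  refine ⟨i, hi, ?_⟩
  rw [hi, h.refl_sq, h.zpow_eq_one_iff, pow_succ'] at hv
  exact (mul_dvd_mul_iff_right (by positivity)).1 hv.2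

omit hm in
theorem quat_sum (h : MC ω₀.grp a b μ 0 1) (hz : z = a ^ (2 : ℤ) ^ μ) {F : ω₀.grp → ℂ}
    (hF : ω₀.Stable F) : ∑ u ∈ invs ω₀, (ω₀.cls u : ℂ)⁻¹ * F u = F z :=
  sum_cls_of_class (fun v => ⟨fun hv => by_contra fun h1 => by
    obtain ⟨i, -, h2⟩ := exists_of_mem_invs h hz hv fun e => h1 (e ▸ Fus.refl v)
    omega, mem_invs_of_fus (z_mem_invs h hz)⟩) hF

theorem quat_card (h : MC ω₀.grp a b μ 0 1) (hμ : μ ≠ 0) (hz : z = a ^ (2 : ℤ) ^ μ) :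
    blockRank 2 (ω₀.blkAt z) ≤ 3 ∧ Nat.card B = blockRank 2 B + 2 ^ μ + 2 := by
  classical
  obtain ⟨ω, a', b', h1, h2, h3, h4⟩ := exists_res hm h hz
  obtain ⟨F, h5, h6, -, h7⟩ := trace_center h1 h3 hμ (h4 ▸ selfC_mem_center _)
  obtain ⟨n, hn⟩ := exists_cfour_eq h hμ
  have h8 := card_eq_add hm h hμ
  rw [quat_sum h3 (z := ⟨_, h3.zpow_mem _⟩) rfl h5, h6, cfour_eq h hz h2, hn] at h7
  rw [quat_sum h hz (stable_rk hm), hn] at h8
  have h9 : blockRank 2 (ω₀.blkAt z) + blockRank 2 (ω₀.blkAt z) + 2 * (n + 1) = 8 := by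
    exact_mod_cast h7
  refine ⟨by omega, Nat.cast_injective (R := ℂ) ?_⟩
  push_cast at h7 h8 ⊢
  linear_combination h8 + h7 / 2

omit hm in
theorem sd_b_mem (h : MC ω₀.grp a b μ 1 0) : ⟨b, h.b_mem⟩ ∈ invs ω₀ := by
  simpa [Subtype.ext_iff] using And.intro (h.refl_ne_one 0) h.sq

omit hm in
open Classical in
theorem sd_sum (h : MC ω₀.grp a b μ 1 0) (hz : z = a ^ (2 : ℤ) ^ μ) {F : ω₀.grp → ℂ}
    (hF : ω₀.Stable F) : ∑ u ∈ invs ω₀, (ω₀.cls u : ℂ)⁻¹ * F u =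
      F z + if ω₀.Fus z ⟨b, h.b_mem⟩ then 0 else F ⟨b, h.b_mem⟩ := by
  have h1 : ∀ v ∈ invs ω₀, ¬ ω₀.Fus z v → ω₀.Fus ⟨b, h.b_mem⟩ v := fun v hv h1 => by
    obtain ⟨i, hi, h2⟩ := exists_of_mem_invs h hz hv fun e => h1 (e ▸ Fus.refl v)
    obtain ⟨k, hk⟩ := h.exists_conj_refl (i := 0) (j := i) (by simpa using h2)
    exact fus_of_isConj (isConj_iff.2 ⟨⟨_, h.zpow_mem k⟩, Subtype.ext (by simpa [hi] using hk)⟩)
  rw [← sum_filter_add_sum_filter_not _ (ω₀.Fus z), sum_cls_of_class (fun v => mem_filter.trans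
    (and_iff_right_of_imp (mem_invs_of_fus (z_mem_invs h hz)))) hF]
  congr 1
  split_ifs with h2
  · exact sum_eq_zero fun v hv => ((mem_filter.1 hv).2
      (h2.trans (h1 v (mem_filter.1 hv).1 (mem_filter.1 hv).2))).elim
  · exact sum_cls_of_class (fun v => mem_filter.trans ⟨fun hv => h1 v hv.1 hv.2, fun hv =>
      ⟨mem_invs_of_fus (sd_b_mem h) hv, fun e => h2 (e.trans hv.symm)⟩⟩) hF

open Classical in
theorem sd_card (h : MC ω₀.grp a b μ 1 0) (hμ : μ ≠ 0) (hz : z = a ^ (2 : ℤ) ^ μ) :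
    blockRank 2 (ω₀.blkAt z) ≤ 2 ∧ Nat.card B =
      blockRank 2 B + 2 ^ μ + 1 + if ω₀.Fus z ⟨b, h.b_mem⟩ then 0 else 1 := by
  obtain ⟨ω, a', b', h1, h2, h3, h4⟩ := exists_res hm h hz
  have hc := h4 ▸ selfC_mem_center (z : G)
  obtain ⟨F, h5, h6, h6', h7⟩ := trace_center h1 h3 hμ hc
  obtain ⟨n, hn⟩ := exists_cfour_eq h hμ
  have h8 := card_eq_add hm h hμ
  have h10 : b' ≠ a' ^ (2 : ℤ) ^ μ := by simpa using h3.refl_ne 0 (2 ^ μ)
  rw [sd_sum h3 (z := ⟨_, h3.zpow_mem _⟩) rfl h5, h6, cfour_eq h hz h2, hn, if_neg fun e => by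
    obtain ⟨g, hg⟩ := isConj_iff.1 e.isConj
    exact h10 (by simpa [mem_center_iff.1 hc g] using hg.symm), h6' _ (sd_b_mem h3) h10] at h7
  rw [sd_sum h hz (stable_rk hm), hn] at h8
  have h9 : blockRank 2 (ω₀.blkAt z) + (blockRank 2 (ω₀.blkAt z) + 2) + 2 * (n + 1) = 8 := by
    exact_mod_cast h7
  refine ⟨by omega, Nat.cast_injective (R := ℂ) ?_⟩
  split_ifs at h8 ⊢ with h11
  · push_cast at h7 h8 ⊢
    linear_combination h8 + h7 / 2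
  · rw [rk_eq_one hm h (u := ⟨b, h.b_mem⟩) (mem_filter.1 (sd_b_mem h)).2.1 (Or.inl fun v e e' =>
      h11 ((Subtype.ext (e'.trans hz.symm) : v = z) ▸ e.symm))] at h8
    push_cast at h7 h8 ⊢
    linear_combination h8 + h7 / 2

end Cfsg.Lib.Tame
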