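import Cfsg.Agent.Lib.Tame.DihStar
import Cfsg.Agent.Lib.Modular.DualSys

/-!
# Defect groups of maximal class: the subsection of the central involution
-/

set_option autoImplicit false
set_option linter.unusedSectionVars false
set_option linter.dupNamespace false

namespace Cfsg.Lib.Tame

open _root_.Cfsg.Lib.Block MonoidAlgebra Cfsg.Lib.Char Cfsg.Lib.Modular Cfsg.Lib.Transfer Subgroup
open Cfsg.Lib.Inv Prs Finset
open scoped ComplexConjugate

variable {G : Type*} [Group G] [Fintype G] {M : Ideal AlgInt} [Modular 2 M]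
  {B : Set (IrrCharacter G)} {ω₀ ω : Prs G 2 M} {a b : G} {μ : ℕ} {ε δ : ℤ} {u v : ω₀.grp}
  {χ : IrrCharacter G} (hm : ω₀.IsMax B)
include hm

theorem dih_card_eq' (h : MC ω₀.grp a b μ 0 0) : Nat.card B = 2 ^ μ + 3 := by
  have := Fintype.ofFinite ω₀.grp
  rcases eq_or_ne μ 0 with rfl | hμ
  · have h1 := h.k4_refl (i := 0) (by simpa using h.sq)
    rw [pow_zero, zpow_one, zpow_zero, one_mul, h.sup] at h1
    exact (hm.klein h1).1
  · exact dih_card_eq hm h hμ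

theorem exists_quot (h : MC ω₀.grp a b (μ + 1) ε δ) (hz : a ^ (2 : ℤ) ^ (μ + 1) ∈ center G)
    {Z : Subgroup G} [Z.Normal] (hZ : Z = zpowers (a ^ (2 : ℤ) ^ (μ + 1))) :
    let A := infl (QuotientGroup.mk' Z) (QuotientGroup.mk'_surjective Z) ⁻¹' B
    ∃ ω : Prs (G ⧸ Z) 2 M, ω.IsMax A ∧ MC ω.grp a b μ 0 0 ∧ blockRank 2 B = blockRank 2 A ∧
      ∀ χ ∈ A, blockHeight 2 A χ.1 = 0 →
        blockHeight 2 B (infl _ (QuotientGroup.mk'_surjective Z) χ).1 = 0 := by
  intro A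
  have := Fintype.ofFinite (G ⧸ Z)
  obtain ⟨h1, h2, h3, -⟩ := quotient_block hm.blk hm.isDefectGroup
    (hZ.trans_le (zpowers_le.2 (h.zpow_mem _))) (hZ.trans_le (zpowers_le.2 hz))
  obtain ⟨ω, h4, h5⟩ := exists_isMax h1 h2
  have h6 : MC ω.grp a b μ 0 0 := h5 ▸ mc_quot h _ ((QuotientGroup.ker_mk' Z).trans hZ)
  refine ⟨ω, h4, h6, h3, fun χ hχ h0 => ?_⟩
  have h7 := Nat.pow_right_injective le_rfl (hm.card_grp.symm.trans h.card_eq)
  have h8 : blockDefect 2 A = μ + 2 :=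
    Nat.pow_right_injective le_rfl (h4.card_grp.symm.trans h6.card_eq)
  have h9 := blockDefect_eq_sub_add (p := 2) hχ
  have h10 := blockDefect_eq_sub_add (p := 2) (B := B) hχ
  have h11 := factorization_card_of_surjective (p := 2) (QuotientGroup.mk'_surjective Z)
  rw [QuotientGroup.ker_mk', show Nat.card Z = 2 by rw [hZ, Nat.card_zpowers, h.z_ord],
    Nat.prime_two.factorization_self] at h11
  rw [charDegree_infl] at h10
  omega

variable [Fintype ω₀.grp]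

theorem trace_center (h : MC ω₀.grp a b μ ε δ) (hμ : μ ≠ 0) (hz : a ^ (2 : ℤ) ^ μ ∈ center G) :
    ∃ F, ω₀.Stable F ∧ F ⟨_, h.zpow_mem (2 ^ μ)⟩ = blockRank 2 B ∧
      (∀ u ∈ invs ω₀, (u : G) ≠ a ^ (2 : ℤ) ^ μ → F u = 2) ∧
      blockRank 2 B + ∑ u ∈ invs ω₀, (ω₀.cls u : ℂ)⁻¹ * F u + 2 * cfour ω₀ = 8 := by
  classical
  obtain ⟨ν, rfl⟩ := Nat.exists_eq_add_one_of_ne_zero hμ
  set z : ω₀.grp := ⟨_, h.zpow_mem (2 ^ (ν + 1))⟩ with hz'
  have : (zpowers (z : G)).Normal := ⟨fun n hn g => by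
    rwa [mem_center_iff.1 (zpowers_le.2 hz hn) g, mul_inv_cancel_right]⟩
  obtain ⟨ω, h1, h2, -, h3⟩ := exists_quot hm h hz (Z := zpowers (z : G)) rfl
  have := Fintype.ofFinite (G ⧸ zpowers (z : G))
  have h4 := dih_card_eq' h1 h2
  rw [← Nat.card_image_of_injective (infl_injective (QuotientGroup.mk'_surjective _)),
    Set.image_preimage_eq_inter_range, range_infl, QuotientGroup.ker_mk'] at h4
  obtain ⟨χ, hχ, h0⟩ := exists_height_zero 2 h1.blk.nonempty
  have h5 := two_mul_card_eq_sum hz hm z.2 h.z_mul_self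
  have h6 : ∀ u : ω₀.grp, (u : G) ∉ zpowers a ∨ (u : G) * u ≠ 1 ∧ (u : G) ^ 4 = 1 →
      blockRank 2 (ω₀.blkAt u) = 1 → (blockRank 2 (ω₀.blkAt u) : ℂ) + ∑ χ with χ ∈ B,
        (χ : G → ℂ) z / (χ : G → ℂ) 1 * (ω₀.sec u).sI u χ χ = 2 := fun u hu h6 => by
    obtain ⟨s, hs, e⟩ := mc_exists_conj_z_mul h hμ u.2 hu
    rw [sum_div_mul_sI_of_fus hz hm z.2 h.z_mul_self (v := z * u) rfl
      (fus_of_isConj (isConj_iff.2 ⟨⟨s, hs⟩, Subtype.ext e⟩)) h6 hχ (h3 χ hχ h0) (by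
        rw [infl_apply, infl_apply, map_one, QuotientGroup.mk'_apply, (QuotientGroup.eq_one_iff _).2
          (mem_zpowers _)]), h6]
    norm_num
  have hz1 : z ≠ 1 := fun e => h.z_ne_one (congrArg Subtype.val e)
  rw [h4, sum_cls_split hm h hμ _ (c := 2) (d := 1)
    (fun u h7 h8 => h6 u (Or.inr ⟨h7, h8⟩) (rk_eq_one_of_mul_self hm h h7)) fun u h7 => by
      rw [sum_div_mul_sI_of_not_fus hz hm z.2 h.z_mul_self (v := z * u) rfl
        (not_fus_of_pow_four hm h h7 rfl), rk_eq_one_of_mul_self hm h (mt pow_four_of_mul_self h7),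
        add_zero, Nat.cast_one],
    sum_div_mul_sI_of_not_fus hz hm z.2 h.z_mul_self (u := 1) (v := z) (mul_one _)
      (mt fus_one_iff.1 hz1), hm.blockRank_blkAt_one] at h5
  refine ⟨_, fun u v e => ?_, ?_, fun u hu h7 => h6 u (Or.inl fun h8 => h7 ?_)
    (rk_eq_one hm h (mem_filter.1 hu).2.1 (Or.inl fun v e e' => h7 ?_)), ?_⟩
  · simp only [hm.blockRank_eq_of_fus e, fun χ : IrrCharacter G =>
      e.sI_eq χ.2.isClassFunction χ.2.isClassFunction]
  · rw [sum_div_mul_sI_of_not_fus hz hm z.2 h.z_mul_self (v := 1) h.z_mul_self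
      fun e => hz1 (fus_one_iff.1 e.symm), add_zero, blockRank_blkAt_center_mul hz hm z.2
      h.z_mul_self (u := 1) (mul_one _), hm.blockRank_blkAt_one]
  · exact h.eq_z h8 (by simpa using (mem_filter.1 hu).2.1) (mem_filter.1 hu).2.2
  · obtain ⟨g, hg⟩ := isConj_iff.1 e.isConj.symm
    rw [← hg, e', mem_center_iff.1 hz g, mul_inv_cancel_right]
  · push_cast at h5
    linear_combination -h5

omit [Fintype ω₀.grp] in
theorem exists_res (h : MC ω₀.grp a b μ ε δ) {z : ω₀.grp} (hz : z = a ^ (2 : ℤ) ^ μ) :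
    ∃ (ω : Prs (centralizer {(z : G)}) 2 M) (a' b' : centralizer {(z : G)}),
      ω.IsMax (ω₀.blkAt z) ∧ ω.IsRes ω₀ ∧ MC ω.grp a' b' μ ε δ ∧
        selfC (z : G) = a' ^ (2 : ℤ) ^ μ := by
  have h1 : ω₀.grp ≤ centralizer {(z : G)} := fun _ hx =>
    mem_centralizer_singleton_iff.2 (hz ▸ h.z_comm hx)
  have h2 : centralizer ((ω₀.sec z).grp : Set G) = centralizer {(z : G)} := by
    rw [grp_sec, Block.centralizer_zpowers]
  obtain ⟨ω, h3, h4⟩ := (isMaxPair_over hm (sec_le _) h1 h2.le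
    (h2.ge.trans (centralizer_le_stabilizer' _))).exists_isRes
  exact ⟨ω, ⟨a, h1 h.a_mem⟩, ⟨b, h1 h.b_mem⟩, h3, h4,
    mc_of_map (subtype_injective _) (h4.grp.symm ▸ h), Subtype.ext hz⟩

omit hm in
theorem cfour_eq (h : MC ω₀.grp a b μ ε δ) {z : G} (hz : z = a ^ (2 : ℤ) ^ μ)
    [Fintype (centralizer {z})] {ω : Prs (centralizer {z}) 2 M}
    [Fintype ω.grp] (hr : ω.IsRes ω₀) : cfour ω = cfour ω₀ := by
  classical
  subst hz
  refine sum_equiv hr.equiv.toEquiv (fun u => ?_) fun u hu => ?_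
  · simp only [mem_filter_univ, Ne, Subtype.ext_iff]
    rfl
  · simp only [mem_filter_univ] at hu
    obtain ⟨h1, h2⟩ := hu
    have h3 := mc_sq_eq_z h (hr.equiv u).2 (fun e => h1 (Subtype.ext e)) (congrArg Subtype.val h2)
    rw [isRes_cls_eq hr u fun v hv => ?_]
    · rfl
    obtain ⟨c, hc⟩ := isConj_iff.1 hv
    have h4 := mc_sq_eq_z h (hr.equiv v).2
      (fun e => h1 (Subtype.ext (conj_eq_one_iff.1 ((conj_mul ..).symm.trans (hc ▸ e)))))
      (hc ▸ conj_pow.trans (conj_eq_one_iff.2 (congrArg Subtype.val h2)))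
    change (u : G) * u = _ at h3
    change (v : G) * v = _ at h4
    refine ⟨fun x hx => mem_centralizer_singleton_iff.2 ?_,
      fun g hg => mem_centralizer_singleton_iff.2 ?_⟩
    · rw [← h4, ← mul_assoc, mem_centralizer_singleton_iff.1 hx, mul_assoc,
        mem_centralizer_singleton_iff.1 hx, mul_assoc]
    · rw [← mul_inv_eq_iff_eq_mul, ← h3, ← conj_mul, hg, h4, h3]

omit hm in
theorem inSpan_comp {Γ : Type*} [Group Γ] [Fintype Γ] {φ : G →* Γ} (hφ : Function.Surjective φ)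
    {f : Γ → ℂ} (hf : InSpan (infl φ hφ ⁻¹' B) f) (hc : IsClassFunction Γ f) :
    InSpan B fun g => f (φ g) := by
  classical
  rw [show (fun g => f (φ g)) = ∑ η with η ∈ infl φ hφ ⁻¹' B, classInner f η • (infl φ hφ η).1 from
    funext fun g => by rw [hf.apply_eq_sum hc, Finset.sum_apply]; rfl]
  exact inSpan_sum _ _ fun η hη => (inSpan_of_mem (B := B) (mem_filter.1 hη).2).smul _

omit [Fintype ω₀.grp] in
theorem exists_cols (h : MC ω₀.grp a b (μ + 2) ε δ) {z : ω₀.grp}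
    (hz : z = a ^ (2 : ℤ) ^ (μ + 2)) : ∃ (t : G → ℂ) (u : ℤ → G → ℂ) (I : Finset ℤ),
      blockRank 2 (ω₀.blkAt z) = #I + 1 ∧ GSpan B t ∧
      classInner t t = (4 * 2 ^ (μ + 2) : ℕ) ∧ (∀ g, t g ≠ 0 → orderOf (pPart 2 g) = 2) ∧
      (∀ σ ∈ I, GSpan B (u σ) ∧ classInner (u σ) (u σ) = (8 : ℤ) ∧ classInner t (u σ) = (0 : ℤ) ∧
        (∀ g, u σ g ≠ 0 → orderOf (pPart 2 g) = 2) ∧ ∀ ψ, 2 ∣ co t ψ + co (u σ) ψ) ∧
      ∀ ψ ∈ B, ∃ c : ℤ, co t ψ + 2 ^ (μ + 1) * ∑ σ ∈ I, co (u σ) ψ =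
        2 ^ blockHeight 2 B ψ.1 * c ∧ ¬ 2 ∣ c := by
  classical
  obtain ⟨ω, a', b', h1, -, h2, e⟩ := exists_res hm h hz
  have hi := hm.isInducedBlock_blkAt z
  have hd := hm.blockDefect_blkAt (u := z) fun _ hx => hz ▸ h.z_comm hx
  have hd' := Nat.pow_right_injective le_rfl (hm.card_grp.symm.trans h.card_eq)
  have hx2 := hz ▸ h.z_ord
  generalize ω₀.blkAt z = b₀ at *
  generalize (z : G) = x at *
  have hx : ∃ k, orderOf x = 2 ^ k := ⟨1, hx2⟩
  obtain ⟨ω', h3, h4, h5, h6⟩ := exists_quot h1 h2 (e ▸ selfC_mem_center x)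
    (Z := zpowers (selfC x)) (e ▸ rfl)
  have := Fintype.ofFinite (centralizer {x} ⧸ zpowers (selfC x))
  have := Fintype.ofFinite ω'.grp
  obtain ⟨φ, T, U, I, hs⟩ := exists_dihStar h3 h4 μ.succ_ne_zero
  have hZ2 : Nat.card (zpowers (selfC x)) = 2 := by rw [Nat.card_zpowers, orderOf_selfC, hx2]
  have hZ : IsPGroup 2 (zpowers (selfC x)) := .of_card (hZ2.trans (pow_one 2).symm)
  have hc := zpowers_le.2 (selfC_mem_center x)
  let L : (centralizer {x} ⧸ zpowers (selfC x) → ℂ) → G → ℂ := fun f =>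
    (2 : ℂ) • secFun 2 x fun c => f c
  have L1 : ∀ f, ∀ ψ : IrrCharacter G, classInner ψ (L f) =
      2 * regInner 2 (secRes x ψ) fun c => f c := fun f ψ => by
    rw [classInner_smul_right, classInner_secFun ψ.2.isClassFunction, map_ofNat]
  have L2 : ∀ f, IsGeneralizedCharacter _ f → (∀ g, 2 ∣ orderOf g → f g = 0) →
      IsGeneralizedCharacter G (L f) := fun f hf h0 =>
    ((isClassFunction_secFun _ _).smul _).isGeneralizedCharacter_of_inner_int fun ψ hψ => by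
      obtain ⟨n, hn⟩ := (isGeneralizedCharacter_regDesc hZ hc (isGeneralizedCharacter_secRes_of_sq
        (hx2 ▸ pow_orderOf_eq_one x) hψ.isGeneralizedCharacter)).exists_inner_eq_int hf
      rw [← regInner_eq_classInner_right (p := 2) _ h0, regInner_regDesc hZ hc, hZ2] at hn
      exact ⟨n, by rw [← conj_classInner, L1 f ⟨ψ, hψ⟩, ← Nat.cast_two, hn, map_intCast]⟩
  have L3 : ∀ f, GSpan _ f → (∀ g, 2 ∣ orderOf g → f g = 0) → GSpan B (L f) := fun f hf h0 =>
    ⟨L2 f hf.gen h0, (InSpan.secFun Modular.out hx hi (inSpan_comp (QuotientGroup.mk'_surjective _)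
      hf.span hf.cls) (hf.cls.comp (QuotientGroup.mk' _))).smul _⟩
  have L4 : ∀ f f', IsClassFunction _ f → (∀ g, 2 ∣ orderOf g → f g = 0) →
      classInner (L f) (L f') = 2 * classInner f f' := fun f f' hf h0 => by
    rw [classInner_smul_left, classInner_smul_right, classInner_secFun_secFun Nat.prime_two hx
      (θ := fun c => f c) (hf.comp (QuotientGroup.mk' _)), ← regInner_eq_classInner_left (p := 2) h0,
      ← regInner_inflate hZ hc, hZ2, map_ofNat]
    rfl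
  have L5 : ∀ f g, L f g ≠ 0 → orderOf (pPart 2 g) = 2 := fun f g hg => by
    rw [← orderOf_eq_of_isConj (by_contra fun h7 => hg (mul_eq_zero_of_right _
      (secFun_eq_zero Nat.prime_two hx _ h7))), hx2]
  have L6 : ∀ f, IsGeneralizedCharacter G (L f) → ∀ ψ : IrrCharacter G, (co (L f) ψ : ℂ) =
      2 * regInner 2 (secRes x ψ) fun c => f c := fun f hf ψ => by
    rw [cast_co hf, hf.inner_comm ψ.2.isGeneralizedCharacter, L1]
  have hT := L3 T hs.spanT hs.singT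
  have hU := fun σ hσ => L3 _ (hs.spanU σ hσ) (hs.singU σ hσ)
  refine ⟨L T, fun σ => L (U σ), I, h5.trans hs.rank, hT,
    by rw [L4 _ _ hs.spanT.cls hs.singT, hs.normT]; push_cast; ring, L5 T,
    fun σ hσ => ⟨hU σ hσ, by rw [L4 _ _ (hs.spanU σ hσ).cls (hs.singU σ hσ), hs.normU σ hσ]; norm_num,
      by rw [L4 _ _ hs.spanT.cls hs.singT, hs.orth σ hσ]; simp, L5 _, fun ψ => ?_⟩,
    fun ψ hψ => exists_eq_pow_mul (p := 2) (M := M) ?_⟩
  · have h7 := L2 _ (hs.half σ hσ) fun g hg => by simp [hs.singT g hg, hs.singU σ hσ g hg]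
    refine ⟨co (L ((2 : ℂ)⁻¹ • (T + U σ))) ψ, Int.cast_injective (α := ℂ) ?_⟩
    rw [Int.cast_mul, L6 _ h7, Int.cast_add, L6 _ hT.gen, L6 _ (hU σ hσ).gen, ← mul_add,
      ← regInner_add_right, show (fun c : centralizer {x} => ((2 : ℂ)⁻¹ • (T + U σ)) c) =
        (2 : ℂ)⁻¹ • ((fun c : centralizer {x} => T c) + fun c : centralizer {x} => U σ c) from rfl,
      regInner_smul_right]
    simp [map_ofNat]
  · obtain ⟨χ, h7, h8⟩ := hs.irr
    obtain ⟨h7, h0⟩ := mem_hzero.1 h7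
    have h9 := (red_regInner_secRes_div_major hx hi hd hψ (GSpan.of_mem (B := b₀) h7)).2
      (mt (red_intCast_eq_zero_iff _).2 (red_contr_ne_zero hi.1 h7 (h6 χ h7 h0)))
    have h10 : ((co (L T) ψ + 2 ^ (μ + 1) * ∑ σ ∈ I, co (L (U σ)) ψ : ℤ) : ℂ) =
        ((2 : ℕ) : ℂ) ^ blockDefect 2 b₀ * regInner 2 (secRes x ψ) fun c => φ c := by
      have h10 := regInner_congr (p := 2) (φ := secRes x ψ) (fun _ _ => rfl)
        (ψ := (4 * 2 ^ (μ + 1) : ℂ) • fun c : centralizer {x} => φ c)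
        (ψ' := (fun c : centralizer {x} => T c) + (2 ^ (μ + 1) : ℂ) •
          ∑ σ ∈ I, fun c : centralizer {x} => U σ c) fun g hg => by
          simpa using hs.reg g (not_dvd_orderOf_map (QuotientGroup.mk' _) hg)
      rw [regInner_add_right, regInner_smul_right, regInner_smul_right, regInner_sum_right] at h10
      rw [hd, hd', Int.cast_add, Int.cast_mul, Int.cast_sum, L6 _ hT.gen,
        sum_congr rfl fun σ hσ => L6 _ (hU σ hσ).gen ψ, ← mul_sum]
      simp only [map_mul, map_pow, map_ofNat] at h10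
      push_cast
      linear_combination -2 * h10
    rw [h10]
    rcases h8 with rfl | rfl
    · exact h9
    · rwa [show (fun c : centralizer {x} => (-χ.1) c) = (-1 : ℂ) • (infl _
        (QuotientGroup.mk'_surjective _) χ).1 from funext fun _ => by simp, regInner_smul_right,
        map_neg, map_one, neg_one_mul, mul_neg, neg_div, red_neg, neg_ne_zero]

end Cfsg.Lib.Tame
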