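import Cfsg.Agent.Lib.Cyc.Lattice

/-!
# Integral columns of tame blocks: the combinatorics
-/

set_option autoImplicit false
set_option linter.unusedSectionVars false
set_option linter.dupNamespace false

namespace Cfsg.Lib.Tame

open Finset Cfsg.Lib.Cyc

variable {ι : Type*} [DecidableEq ι] {s H : Finset ι} {v t u α : ι → ℤ}

theorem exists_sq_decomp (hH : H ⊆ s) (ho : ∀ i ∈ s, ¬ 2 ∣ v i ↔ i ∈ H) : ∃ q : ι → ℕ,
    (∀ i ∈ H, v i ^ 2 = 1 + 8 * q i) ∧ (∀ i ∈ s \ H, v i ^ 2 = 4 * q i ∧ q i ≠ 2 ∧ q i ≠ 3) ∧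
      ∑ i ∈ s, v i ^ 2 = #H + 8 * (∑ i ∈ H, q i : ℕ) + 4 * (∑ i ∈ s \ H, q i : ℕ) := by
  have h1 : ∀ i, ∃ q : ℕ, (i ∈ H → v i ^ 2 = 1 + 8 * q) ∧
      (i ∈ s \ H → v i ^ 2 = 4 * q ∧ q ≠ 2 ∧ q ≠ 3) := fun i => by
    by_cases hi : i ∈ H
    · obtain ⟨k, hk⟩ := Int.not_even_iff_odd.1 fun h => (ho i (hH hi)).2 hi h.two_dvd
      obtain ⟨r, hr⟩ := Int.even_mul_succ_self k
      have h2 : 0 ≤ r := by nlinarith [sq_nonneg (2 * k + 1)]
      refine ⟨r.toNat, fun _ => ?_, fun h => ((mem_sdiff.1 h).2 hi).elim⟩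
      rw [Int.toNat_of_nonneg h2, hk]
      linear_combination 4 * hr
    · by_cases hs : i ∈ s
      · obtain ⟨k, hk⟩ := not_not.1 (mt (ho i hs).1 hi)
        refine ⟨k.natAbs ^ 2, fun h => (hi h).elim, fun _ => ⟨?_, ?_⟩⟩
        · rw [hk]; push_cast; rw [sq_abs]; ring
        · rcases le_or_gt k.natAbs 1 with h | h
          · interval_cases k.natAbs <;> simp
          · constructor <;> nlinarith
      · exact ⟨0, fun h => (hi h).elim, fun h => (hs (mem_sdiff.1 h).1).elim⟩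
  choose q h2 h3 using h1
  refine ⟨q, h2, h3, ?_⟩
  rw [← sum_sdiff hH, sum_congr rfl h2, sum_congr rfl fun i hi => (h3 i hi).1, sum_add_distrib,
    ← mul_sum, ← mul_sum]
  push_cast
  simp only [sum_const, nsmul_eq_mul, mul_one]
  ring

theorem norm_four (hH : H ⊆ s) (hne : H.Nonempty) (ho : ∀ i ∈ s, ¬ 2 ∣ v i ↔ i ∈ H)
    (h : ∑ i ∈ s, v i ^ 2 = 4) : #H = 4 ∧ (∀ i ∈ H, v i ^ 2 = 1) ∧ ∀ i ∈ s \ H, v i = 0 := by
  obtain ⟨q, h1, h2, h3⟩ := exists_sq_decomp hH ho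
  have h4 := hne.card_pos
  have h5 : ∑ i ∈ H, q i = 0 := by omega
  have h6 : ∑ i ∈ s \ H, q i = 0 := by omega
  exact ⟨by omega, fun i hi => by rw [h1 i hi, sum_eq_zero_iff.1 h5 i hi]; simp,
    fun i hi => pow_eq_zero_iff two_ne_zero |>.1 (by
      rw [(h2 i hi).1, sum_eq_zero_iff.1 h6 i hi]; simp)⟩

theorem norm_eight (hH : H ⊆ s) (h4 : #H = 4) (ho : ∀ i ∈ s, ¬ 2 ∣ v i ↔ i ∈ H)
    (h : ∑ i ∈ s, v i ^ 2 = 8) : (∀ i ∈ H, v i ^ 2 = 1) ∧
      ∃ f ∈ s \ H, v f ^ 2 = 4 ∧ ∀ i ∈ s \ H, i ≠ f → v i = 0 := by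
  obtain ⟨q, h1, h2, h3⟩ := exists_sq_decomp hH ho
  have h5 : ∑ i ∈ H, q i = 0 := by omega
  have h6 : ∑ i ∈ s \ H, q i = 1 := by omega
  refine ⟨fun i hi => by rw [h1 i hi, sum_eq_zero_iff.1 h5 i hi]; simp, ?_⟩
  obtain ⟨f, hf, h7⟩ := exists_ne_zero_of_sum_ne_zero (h6 ▸ one_ne_zero)
  rw [← add_sum_erase _ _ hf] at h6
  have h8 : ∑ i ∈ (s \ H).erase f, q i = 0 := by omega
  exact ⟨f, hf, by rw [(h2 f hf).1, show q f = 1 by omega]; simp,
    fun i hi e => pow_eq_zero_iff two_ne_zero |>.1 (by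
      rw [(h2 i hi).1, sum_eq_zero_iff.1 h8 i (mem_erase.2 ⟨e, hi⟩)]; simp)⟩

/-- A column without zeros of norm `4 n` which is odd at exactly four places. -/
theorem card_cases (hH : H ⊆ s) (h4 : #H = 4) (ho : ∀ i ∈ s, ¬ 2 ∣ t i ↔ i ∈ H)
    (h0 : ∀ i ∈ s, t i ≠ 0) {n : ℕ} (h : ∑ i ∈ s, t i ^ 2 = 4 * n) :
    (#s = n + 3 ∧ ∀ i ∈ s \ H, t i ^ 2 = 4) ∨ (#s = n + 1 ∧ ∑ i ∈ H, t i ^ 2 = 12) ∨ #s ≤ n := by
  obtain ⟨q, h1, h2, h3⟩ := exists_sq_decomp hH ho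
  have h5 : ∀ i ∈ s \ H, 1 ≤ q i := fun i hi => Nat.pos_of_ne_zero fun e =>
    h0 i (mem_sdiff.1 hi).1 (pow_eq_zero_iff two_ne_zero |>.1 (by rw [(h2 i hi).1, e]; simp))
  have h6 : ∑ i ∈ s \ H, q i = #(s \ H) + ∑ i ∈ s \ H, (q i - 1) := by
    rw [card_eq_sum_ones, ← sum_add_distrib]
    exact sum_congr rfl fun i hi => by have := h5 i hi; omega
  have h7 := card_sdiff_add_card_eq_card hH
  have h8 : ∑ i ∈ s \ H, (q i - 1) = 0 ∨ 3 ≤ ∑ i ∈ s \ H, (q i - 1) := by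
    by_cases h8 : ∑ i ∈ s \ H, (q i - 1) = 0
    · exact Or.inl h8
    · obtain ⟨f, hf, h9⟩ := exists_ne_zero_of_sum_ne_zero h8
      have := single_le_sum (f := fun i => q i - 1) (fun _ _ => Nat.zero_le _) hf
      have := h2 f hf
      omega
  have h9 : ∑ i ∈ H, t i ^ 2 = 4 + 8 * (∑ i ∈ H, q i : ℕ) := by
    rw [sum_congr rfl h1, sum_add_distrib, ← mul_sum]; simp [h4]
  by_cases h10 : #s = n + 3
  · refine Or.inl ⟨h10, fun i hi => ?_⟩
    have := sum_eq_zero_iff.1 (show ∑ i ∈ s \ H, (q i - 1) = 0 by omega) i hi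
    have := h5 i hi
    rw [(h2 i hi).1, show q i = 1 by omega]; simp
  · right
    omega

theorem not_twelve (h4 : #H = 4) (ho : ∀ i ∈ H, ¬ 2 ∣ t i) (hα : ∀ i ∈ H, α i ^ 2 = 1)
    (hu : ∀ i ∈ H, u i ^ 2 = 1) (h1 : ∑ i ∈ H, t i * α i = 0) (h2 : ∑ i ∈ H, u i * α i = 0)
    (h3 : ∑ i ∈ H, t i * u i = 0) : ∑ i ∈ H, t i ^ 2 ≠ 12 := fun h => by
  have h5 : ∀ i ∈ H, u i * α i = 1 ∨ u i * α i = -1 := fun i hi =>
    sq_eq_one_iff.1 (by rw [mul_pow, hα i hi, hu i hi, mul_one])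
  rw [sum_congr rfl (g := fun i => t i * α i * (u i * α i)) fun i hi => by
    linear_combination (-t i * u i) * hα i hi] at h3
  rw [sum_congr rfl (g := fun i => (t i * α i) ^ 2) fun i hi => by
    rw [mul_pow, hα i hi, mul_one]] at h
  have h6 : ∀ i ∈ H, ¬ 2 ∣ t i * α i := fun i hi h6 => by
    rcases sq_eq_one_iff.1 (hα i hi) with e | e <;> exact ho i hi (by simpa [e] using h6)
  have h7 : ∀ x y : ℤ, ¬ 2 ∣ x → ¬ 2 ∣ y → 2 * x ^ 2 + 2 * y ^ 2 ≠ 12 := fun x y hx hy e => by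
    have h8 : -3 < x ∧ x < 3 := by constructor <;> nlinarith [sq_nonneg y]
    have h9 : -3 < y ∧ y < 3 := by constructor <;> nlinarith [sq_nonneg x]
    obtain ⟨_, _⟩ := h8
    obtain ⟨_, _⟩ := h9
    interval_cases x <;> interval_cases y <;> omega
  obtain ⟨a, b, c, d, hab, hac, had, hbc, hbd, hcd, rfl⟩ := card_eq_four.1 h4
  simp only [sum_insert, mem_insert, mem_singleton, hab, hac, had, hbc, hbd, hcd, or_self,
    not_false_eq_true, sum_singleton, forall_eq_or_imp, forall_eq] at h h1 h2 h3 h5 h6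
  obtain ⟨ha, hb, hc, hd⟩ := h6
  obtain ⟨e1 | e1, e2 | e2, e3 | e3, e4 | e4⟩ := h5 <;> rw [e1, e2, e3, e4] at h2 h3 <;>
    first
    | omega
    | exact h7 _ _ ha hc (by rw [← h, show t b * α b = -(t a * α a) by omega,
        show t d * α d = -(t c * α c) by omega]; ring)
    | exact h7 _ _ ha hb (by rw [← h, show t c * α c = -(t a * α a) by omega,
        show t d * α d = -(t b * α b) by omega]; ring)
    | exact h7 _ _ ha hb (by rw [← h, show t d * α d = -(t a * α a) by omega,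
        show t c * α c = -(t b * α b) by omega]; ring)

section Family

variable (hH : H ⊆ s) (hα : ∀ i ∈ H, α i ^ 2 = 1) (hα' : ∀ i ∈ s \ H, α i = 0)
include hH hα hα'

theorem three_shape (h3 : ∑ i ∈ s, v i ^ 2 = 3) (h2 : ∑ i ∈ s, v i * α i = 2) :
    ∃ P ⊆ H, #P = 2 ∧ ∃ e ∈ s \ H, v e ^ 2 = 1 ∧
      ∀ i ∈ s, v i = if i ∈ P then α i else if i = e then v e else 0 := by
  rw [← sum_sdiff hH] at h3 h2
  rw [sum_eq_zero fun i hi => by rw [hα' i hi, mul_zero], zero_add] at h2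
  have h4 : 0 ≤ ∑ i ∈ s \ H, v i ^ 2 := sum_nonneg fun _ _ => sq_nonneg _
  have h5 : ∀ i ∈ H, (v i = 0 ∨ v i = α i) ∨ 2 ≤ v i ^ 2 - v i * α i := fun i hi => by
    rcases sq_eq_one_iff.1 (hα i hi) with e | e <;> rw [e] <;>
      rcases lt_trichotomy (v i) 0 with h | h | h <;> first | omega | skip
    all_goals
      by_contra h6
      push Not at h6
      first | nlinarith [show 2 ≤ v i by omega] | nlinarith [show v i ≤ -2 by omega] | nlinarith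
  have h6 : ∀ i ∈ H, 0 ≤ v i ^ 2 - v i * α i := fun i hi => by
    rcases h5 i hi with (e | e) | e
    · simp [e]
    · rw [e, sq, sub_self]
    · omega
  have h7 : ∀ i ∈ H, v i = 0 ∨ v i = α i := fun i hi => (h5 i hi).resolve_right fun h => by
    have := single_le_sum h6 hi
    rw [sum_sub_distrib] at this
    omega
  have h8 : ∀ f : ι → ℤ, (∀ i ∈ H, f i = if v i = α i then 1 else 0) →
      ∑ i ∈ H, f i = #{i ∈ H | v i = α i} := fun f hf => by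
    rw [sum_congr rfl hf, card_filter]; push_cast; rfl
  have h9 : ∀ i ∈ H, α i ≠ 0 := fun i hi e => by simpa [e] using hα i hi
  rw [h8 _ fun i hi => by
    rcases h7 i hi with e | e <;> simp [e, hα i hi, (h9 i hi).symm, ← sq]] at h2 h3
  have h10 : ∑ i ∈ s \ H, v i ^ 2 = 1 := by omega
  obtain ⟨e, he, h11⟩ := exists_ne_zero_of_sum_ne_zero (h10 ▸ one_ne_zero)
  obtain ⟨h12, h13⟩ := one_of_sum_sq _ v h10 e he (pow_ne_zero_iff two_ne_zero |>.1 h11)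
  refine ⟨_, filter_subset _ _, by exact_mod_cast h2, e, he, h12, fun i hi => ?_⟩
  split_ifs with h14 h15
  · exact (mem_filter.1 h14).2
  · rw [h15]
  · by_cases h16 : i ∈ H
    · exact (h7 i h16).resolve_right fun e => h14 (mem_filter.2 ⟨h16, e⟩)
    · exact h13 i (mem_sdiff.2 ⟨hi, h16⟩) h15

variable {n : ℕ} {x : ℕ → ι → ℤ} (hn : 0 < n) (hn' : Even n)
  (hG : ∀ j ∈ Ioo 0 n, ∀ k ∈ Ioo 0 n, ∑ i ∈ s, x j i * x k i = 2 + if j = k then 1 else 0)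
  (hx : ∀ j ∈ Ioo 0 n, ∑ i ∈ s, x j i * α i = 2)
include hn hn' hG hx

theorem family_cases : (∃ P ⊆ H, #P = 2 ∧ ∃ e : ℕ → ι, Set.InjOn e (Ioo 0 n) ∧ ∀ j ∈ Ioo 0 n,
    e j ∈ s \ H ∧ x j (e j) ^ 2 = 1 ∧
      ∀ i ∈ s, x j i = if i ∈ P then α i else if i = e j then x j (e j) else 0) ∨
    3 ≤ n ∧ ∃ e, ∀ j ∈ Ioo 0 n, ∀ i ∈ s \ H, i ≠ e → x j i = 0 := by
  have h0 := fun j (hj : j ∈ Ioo 0 n) => three_shape hH hα hα' (v := x j)
    (by simpa [sq] using hG j hj j hj) (hx j hj)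
  have h1 : 1 ∈ Ioo 0 n := mem_Ioo.2 ⟨one_pos, by obtain ⟨k, rfl⟩ := hn'; omega⟩
  have : Nonempty ι := ⟨(h0 1 h1).choose_spec.2.2.choose⟩
  choose! P hP h2 e he h3 h4 using h0
  have h5 : ∀ j ∈ Ioo 0 n, ∀ k ∈ Ioo 0 n, j ≠ k →
      (#(P j ∩ P k) : ℤ) + (if e j = e k then x j (e j) * x k (e k) else 0) = 2 := by
    intro j hj k hk hjk
    have h6 := hG j hj k hk
    rw [if_neg hjk, add_zero, sum_congr rfl (g := fun i => (if i ∈ P j ∩ P k then 1 else 0) +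
      if i = e j then if e j = e k then x j (e j) * x k (e k) else 0 else 0) fun i hi => ?_,
      sum_add_distrib, sum_ite_eq', if_pos (mem_sdiff.1 (he j hj)).1, ← sum_filter,
      filter_mem_eq_inter, inter_eq_right.2 (inter_subset_left.trans ((hP j hj).trans hH))] at h6
    · simpa using h6
    have h7 : i ∈ P j → i ≠ e j := fun h e' => (mem_sdiff.1 (he j hj)).2 (e' ▸ hP j hj h)
    have h8 : i ∈ P j → i ≠ e k := fun h e' => (mem_sdiff.1 (he k hk)).2 (e' ▸ hP j hj h)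
    have h9 : i ∈ P k → i ≠ e j := fun h e' => (mem_sdiff.1 (he j hj)).2 (e' ▸ hP k hk h)
    rw [h4 j hj i hi, h4 k hk i hi]
    by_cases h10 : i ∈ P j <;> by_cases h11 : i ∈ P k
    · simp [h10, h11, h7 h10, ← sq, hα i (hP j hj h10)]
    · simp [h10, h11, h7 h10, h8 h10]
    · simp [h10, h11, h9 h11]
    · by_cases h12 : i = e j
      · subst h12; simp [h10, h11]
      · simp [h10, h11, h12]
  have h6 : ∀ j ∈ Ioo 0 n, ∀ k ∈ Ioo 0 n, e j ≠ e k → P j = P k := fun j hj k hk h => by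
    have h7 := h5 j hj k hk fun e' => h (e' ▸ rfl)
    rw [if_neg h, add_zero] at h7
    exact (eq_of_subset_of_card_le inter_subset_left (by have := h2 j hj; omega)).symm.trans
      (eq_of_subset_of_card_le inter_subset_right (by have := h2 k hk; omega))
  by_cases h7 : Set.InjOn e (Ioo 0 n)
  · refine Or.inl ⟨P 1, hP 1 h1, h2 1 h1, e, h7, fun j hj => ⟨he j hj, h3 j hj, ?_⟩⟩
    by_cases h8 : j = 1
    · exact h8 ▸ h4 1 h1
    · exact h6 j hj 1 h1 (fun e' => h8 (h7 hj h1 e')) ▸ h4 j hj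
  · simp only [Set.InjOn, mem_coe, not_forall] at h7
    obtain ⟨j, hj, k, hk, h7, h8⟩ := h7
    refine Or.inr ⟨by have := mem_Ioo.1 hj; have := mem_Ioo.1 hk; omega, e j,
      fun l hl i hi h9 => ?_⟩
    have h10 : e l = e j := by
      by_contra h10
      have h11 := h5 j hj k hk h8
      rw [if_pos h7, ← h6 l hl j hj h10, ← h6 l hl k hk (h7 ▸ h10), inter_self, h2 l hl] at h11
      have h12 := h3 j hj
      have h13 := h3 k hk
      rcases mul_eq_zero.1 (show x j (e j) * x k (e k) = 0 by omega) with h | h <;>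
        simp [h] at h12 h13
    rw [h4 l hl i (mem_sdiff.1 hi).1, if_neg fun h => (mem_sdiff.1 hi).2 (hP l hl h),
      if_neg (h10 ▸ h9)]

variable (h4 : #H = 4) (ht : ∑ i ∈ s, t i ^ 2 = 4 * n) (htα : ∑ i ∈ s, t i * α i = 0)
  (htx : ∀ j ∈ Ioo 0 n, ∑ i ∈ s, t i * x j i = 2 * (-1) ^ j - 2)
include h4 ht htα htx

theorem eq_sum_of_family : ∀ i ∈ s, t i = 2 * ∑ j ∈ Ioo 0 n, (-1) ^ j * x j i + α i := by
  have h1 : ∑ j ∈ Ioo 0 n, (-1 : ℤ) ^ j = -1 := by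
    have h2 := neg_one_geom_sum (R := ℤ) (n := n)
    rw [if_pos hn', range_eq_Ico, ← Ioo_insert_left hn, sum_insert (by simp)] at h2
    omega
  have h2 : (#(Ioo 0 n) : ℤ) = n - 1 := by rw [Nat.card_Ioo]; omega
  have h3 : ∀ j : ℕ, (-1 : ℤ) ^ j * (-1) ^ j = 1 := fun j => by rw [← mul_pow]; simp
  set y : ι → ℤ := fun i => ∑ j ∈ Ioo 0 n, (-1) ^ j * x j i
  have h5 : ∀ f : ι → ℤ, ∑ i ∈ s, f i * y i = ∑ j ∈ Ioo 0 n, (-1) ^ j * ∑ i ∈ s, f i * x j i :=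
    fun f => by simp only [y, mul_sum, mul_left_comm]; exact sum_comm
  have h6 : ∑ i ∈ s, t i * y i = 2 * n := by
    rw [h5, sum_congr rfl (g := fun j => 2 - 2 * (-1) ^ j) fun j hj => by
      rw [htx j hj]; linear_combination 2 * h3 j, sum_sub_distrib, ← mul_sum, h1, sum_const,
      nsmul_eq_mul, h2]
    ring
  have h7 : ∑ i ∈ s, α i * y i = -2 := by
    rw [h5, sum_congr rfl fun j hj => by simp only [mul_comm (α _)]; rw [hx j hj], ← sum_mul, h1]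
    ring
  have h8 : ∑ i ∈ s, y i * y i = n + 1 := by
    rw [h5, sum_congr rfl (g := fun j => 1 - 2 * (-1) ^ j) fun j hj => by
      simp only [mul_comm (y _)]
      rw [h5, sum_congr rfl fun k hk => by rw [hG j hj k hk, mul_add, mul_ite, mul_one, mul_zero],
        sum_add_distrib, ← sum_mul, h1, sum_ite_eq, if_pos hj]
      linear_combination h3 j, sum_sub_distrib, ← mul_sum, h1, sum_const, nsmul_eq_mul, h2]
    ring
  have h9 : ∑ i ∈ s, α i ^ 2 = 4 := by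
    rw [← sum_sdiff hH, sum_eq_zero fun i hi => by rw [hα' i hi]; simp, sum_congr rfl hα]
    simp [h4]
  have h10 : ∑ i ∈ s, (t i - (2 * y i + α i)) ^ 2 = 0 := by
    rw [sum_congr rfl (g := fun i => t i ^ 2 + 4 * (y i * y i) + α i ^ 2 + 4 * (α i * y i) -
      4 * (t i * y i) - 2 * (t i * α i)) fun i _ => by ring]
    simp only [sum_add_distrib, sum_sub_distrib, ← mul_sum, ht, htα, h6, h7, h8, h9]
    ring
  exact fun i hi => sub_eq_zero.1 (pow_eq_zero_iff two_ne_zero |>.1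
    ((sum_eq_zero_iff_of_nonneg fun _ _ => sq_nonneg _).1 h10 i hi))

theorem family_shape (h0 : ∀ i ∈ s, t i ≠ 0) (h5 : 3 ≤ n → 5 < #s) :
    ∃ P ⊆ H, #P = 2 ∧ ∃ e : ℕ → ι, Set.InjOn e (Ioo 0 n) ∧ s \ H = (Ioo 0 n).image e ∧
      (∀ i ∈ s \ H, t i ^ 2 = 4) ∧ ∀ j ∈ Ioo 0 n, x j (e j) ^ 2 = 1 ∧
        ∀ i ∈ s, x j i = if i ∈ P then α i else if i = e j then x j (e j) else 0 := by
  have h1 := eq_sum_of_family hH hα hα' hn hn' hG hx h4 ht htα htx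
  have h2 : ∀ i ∈ s \ H, ∃ j ∈ Ioo 0 n, x j i ≠ 0 := fun i hi => by
    by_contra h
    push Not at h
    refine h0 i (mem_sdiff.1 hi).1 ?_
    rw [h1 i (mem_sdiff.1 hi).1, hα' i hi, sum_eq_zero fun j hj => by rw [h j hj, mul_zero]]
    simp
  obtain ⟨P, hP, h3, e, h6, h7⟩ | ⟨h3, e, h6⟩ := family_cases hH hα hα' hn hn' hG hx
  · have h8 : ∀ j ∈ Ioo 0 n, ∀ i ∈ s \ H, x j i = if i = e j then x j (e j) else 0 :=
      fun j hj i hi => by
        rw [(h7 j hj).2.2 i (mem_sdiff.1 hi).1, if_neg fun h => (mem_sdiff.1 hi).2 (hP h)]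
    have h9 : s \ H = (Ioo 0 n).image e := Subset.antisymm (fun i hi => by
      obtain ⟨j, hj, h9⟩ := h2 i hi
      exact mem_image.2 ⟨j, hj, by_contra fun h => h9 (by rw [h8 j hj i hi, if_neg (Ne.symm h)])⟩)
      (image_subset_iff.2 fun j hj => (h7 j hj).1)
    refine ⟨P, hP, h3, e, h6, h9, fun i hi => ?_, fun j hj => (h7 j hj).2⟩
    obtain ⟨j, hj, rfl⟩ := mem_image.1 (h9 ▸ hi)
    rw [h1 _ (mem_sdiff.1 hi).1, hα' _ hi, sum_eq_single_of_mem j hj fun k hk hkj => by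
      rw [h8 k hk _ hi, if_neg fun h => hkj (h6 hj hk h).symm, mul_zero], add_zero, mul_pow, mul_pow,
      (h7 j hj).2.1, ← pow_mul, mul_comm j, pow_mul]
    norm_num
  · have h7 : s \ H ⊆ {e} := fun i hi => mem_singleton.2 (by_contra fun h =>
      (h2 i hi).elim fun j hj => hj.2 (h6 j hj.1 i hi h))
    have := card_le_card h7
    have := card_sdiff_add_card_eq_card hH
    have := h5 h3
    rw [card_singleton] at *
    omega

end Family

end Cfsg.Lib.Tame
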