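import Cfsg.Agent.Lib.Tame.Dihedral

/-!
# Blocks with a dihedral defect group: the class functions vanishing on singular elements
-/

set_option autoImplicit false
set_option linter.unusedSectionVars false
set_option linter.dupNamespace false

namespace Cfsg.Lib.Tame

open _root_.Cfsg.Lib.Block MonoidAlgebra Cfsg.Lib.Char Cfsg.Lib.Modular Cfsg.Lib.Transfer Subgroup
open Cfsg.Lib.Inv Prs Finset
open scoped ComplexConjugate

variable {G : Type*} [Group G] [Fintype G] {M : Ideal AlgInt} [Modular 2 M]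
  {B : Set (IrrCharacter G)} {ω₀ ω : Prs G 2 M} {a b : G} {μ : ℕ} {ε δ : ℤ} {u v y : ω₀.grp}
  [Fintype ω₀.grp] {χ : IrrCharacter G}

theorem classInner_bstar_cind_cind (hm : ω₀.IsMax B) (hχ : χ ∈ B) (u v : ω₀.grp) :
    classInner (ω₀.bstar (cind u) χ) (ω₀.bstar (cind v) χ) = cind u v * (ω₀.sec v).sI v χ χ := by
  have hc := χ.2.isClassFunction
  rw [hm.classInner_bstar_left (stable_cind u) hc (hm.isClassFunction_bstar (stable_cind v) hc),
    hm.bstar_bstar _ (stable_cind v) hc, ← conj_classInner,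
    show (fun w => conj (cind u w)) * cind v = cind u v • cind v from funext fun w => ?_,
    bstar_smul_left, classInner_smul_left, classInner_bstar_cind hm hc (inSpan_of_mem hχ) hc,
    map_mul, conj_sI]
  · congr 1
    rw [cind]; split_ifs <;> simp
  · rw [Pi.mul_apply, Pi.smul_apply, smul_eq_mul]
    by_cases h : ω₀.Fus v w
    · rw [stable_cind u v w h, cind]; split_ifs <;> simp
    · rw [cind_of_not h, mul_zero, mul_zero]

open Classical in
theorem inv_column (hm : ω₀.IsMax B) (h : MC ω₀.grp a b μ ε δ) (hk : #(hzero B) = 4)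
    (hy : y ∈ invs ω₀) (hz : ¬ ω₀.Fus ⟨_, h.zpow_mem (2 ^ μ)⟩ y) (hχ : χ ∈ hzero B) :
    GSpan B ((4 : ℂ) • ω₀.bstar (cind y) χ) ∧ 4 * (ω₀.sec y).sI y χ χ = 1 ∧
      (∀ ψ ∈ hzero B, co ((4 : ℂ) • ω₀.bstar (cind y) χ) ψ ^ 2 = 1) ∧
      ∀ ψ ∈ irrs B \ hzero B, co ((4 : ℂ) • ω₀.bstar (cind y) χ) ψ = 0 := by
  obtain ⟨hχ, h0⟩ := mem_hzero.1 hχ
  obtain ⟨v, h1, h2⟩ := exists_fus_isDefIn hm y
  obtain ⟨h3, h4⟩ := (mem_filter.1 (mem_invs_of_fus hy h1)).2
  have h5 : ∀ w, ω₀.Fus y w → (w : G) ≠ a ^ (2 : ℤ) ^ μ := fun w hw e =>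
    hz ((Subtype.ext e : w = ⟨_, h.zpow_mem (2 ^ μ)⟩) ▸ hw.symm)
  have h6 : (v : G) ∉ zpowers a := fun e => h5 v h1 (h.eq_z e (by simpa using h3) h4)
  have h7 : ((2 : ℕ) : ℂ) ^ blockDefect 2 (ω₀.blkAt v) = 4 := by
    obtain ⟨i, hi⟩ := h.exists_refl v.2 h6
    rw [← Nat.cast_pow, ← card_of_isDefIn_blkAt' h2, mc_inf_centralizer h v.2 h6, hi,
      (h.k4_refl (hi ▸ h4)).card_four, Nat.cast_ofNat]
  have hc := χ.2.isClassFunction
  have h8 : ∀ ξ ψ : IrrCharacter G, 4 * (ω₀.sec y).sI y ξ ψ =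
      ((2 : ℕ) : ℂ) ^ blockDefect 2 (ω₀.blkAt v) * (ω₀.sec v).sI v ξ ψ := fun ξ ψ => by
    rw [h7, h1.sI_eq ξ.2.isClassFunction ψ.2.isClassFunction]
  have h9 : ∀ ψ : IrrCharacter G, classInner ((4 : ℂ) • ω₀.bstar (cind y) χ) ψ = _ := fun ψ => by
    rw [classInner_smul_left, classInner_bstar_cind hm hc (inSpan_of_mem hχ) ψ.2.isClassFunction,
      h8]
  have h10 := fun ξ ψ : IrrCharacter G => exists_int_pow_mul_sI (p := 2) h4
    ξ.2.isGeneralizedCharacter ψ.2.isGeneralizedCharacter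
  have h11 : GSpan B ((4 : ℂ) • ω₀.bstar (cind y) χ) :=
    ⟨((hm.isClassFunction_bstar (stable_cind y) hc).smul _).isGeneralizedCharacter_of_inner_int
      fun ψ hψ => h9 ⟨ψ, hψ⟩ ▸ h10 χ ⟨ψ, hψ⟩,
      (hm.inSpan_bstar (stable_cind y) hc (inSpan_of_mem hχ)).smul _⟩
  choose n hn using fun ξ => h10 ξ ξ
  have h12 : ∀ ξ, 0 ≤ n ξ := fun ξ => by
    have h12 := congrArg Complex.re (hn ξ)
    rw [h7, show (4 : ℂ) = (4 : ℝ) by simp, Complex.re_ofReal_mul, Complex.intCast_re] at h12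
    exact_mod_cast h12 ▸ mul_nonneg (by norm_num) (regInner_self_re_nonneg _)
  have h13 : ∑ ξ ∈ irrs B, n ξ = 4 := Int.cast_injective (α := ℂ) (by
    rw [Int.cast_sum, sum_congr rfl fun ξ _ => (hn ξ).symm, ← mul_sum, hm.sum_sI_self, h7,
      ← hm.blockRank_eq_of_fus h1, rk_eq_one hm h (mem_filter.1 hy).2.1 (Or.inl h5)]
    simp)
  have h14 := Cyc.eq_of_sum_le (s := hzero B) (f := fun _ => 1) (g := n) (fun ξ hξ => by
    have h14 := (hm.red_sI_ne_zero_iff (mem_hzero.1 hξ).1 (mem_hzero.1 hξ).1 v).2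
      ⟨(mem_hzero.1 hξ).2, (mem_hzero.1 hξ).2⟩
    rw [hn, Ne, red_intCast_eq_zero_iff] at h14
    exact lt_of_le_of_ne (h12 ξ) fun e => h14 (e ▸ dvd_zero _))
    ((sum_le_sum_of_subset_of_nonneg hzero_subset fun ξ _ _ => h12 ξ).trans (by simp [h13, hk]))
    χ (mem_hzero.2 ⟨hχ, h0⟩)
  have h15 : 4 * (ω₀.sec y).sI y χ χ = 1 := by rw [h8, hn, h14, Int.cast_one]
  refine ⟨h11, h15, (norm_four hzero_subset (hzero_nonempty hm.blk.nonempty)
    (iff_mem_hzero fun ψ hψ => (not_dvd_co_iff (p := 2) (M := M) h11.gen).trans ?_)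
    (sum_co_sq h11 ?_)).2⟩
  · rw [h9, hm.red_sI_ne_zero_iff hχ hψ, and_iff_right h0]
  · rw [classInner_smul_left, classInner_smul_right, classInner_bstar_cind_cind hm hχ,
      cind_of_fus (Fus.refl y), map_ofNat, one_mul, h15]
    simp

variable (B μ) in
/-- A basis of the generalized characters in the span of `B` that vanish on singular elements. -/
structure DihStar (φ T : G → ℂ) (U : ℤ → G → ℂ) (I : Finset ℤ) : Prop where
  irr : ∃ χ ∈ hzero B, φ = χ ∨ φ = -χ.1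
  rank : blockRank 2 B = #I + 1
  spanT : GSpan B T
  normT : classInner T T = 4 * 2 ^ μ
  singT : ∀ g, 2 ∣ orderOf g → T g = 0
  spanU : ∀ σ ∈ I, GSpan B (U σ)
  normU : ∀ σ ∈ I, classInner (U σ) (U σ) = 4
  orth : ∀ σ ∈ I, classInner T (U σ) = 0
  singU : ∀ σ ∈ I, ∀ g, 2 ∣ orderOf g → U σ g = 0
  half : ∀ σ ∈ I, IsGeneralizedCharacter G ((2 : ℂ)⁻¹ • (T + U σ))
  reg : ∀ g, ¬ 2 ∣ orderOf g → 4 * 2 ^ μ * φ g = T g + 2 ^ μ * ∑ σ ∈ I, U σ g

open Classical in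
theorem exists_dihStar (hm : ω₀.IsMax B) (h : MC ω₀.grp a b μ 0 0) (hμ : μ ≠ 0) :
    ∃ φ T U I, DihStar B μ φ T U I := by
  obtain ⟨c₁, c₂, c₃, c₄, x, V, hH, hd, hS, -, hx, hV, hV', hV''⟩ := dih_signed hm h hμ
  obtain ⟨X, hX, hz, hXf, -, hXc⟩ := dih_card hm h hμ
  rw [dih_card_eq hm h hμ] at hXc
  have hk := (exists_alpha hm h hμ).choose_spec.2.1
  simp only [List.nodup_cons, List.mem_cons, List.not_mem_nil, or_false, not_or] at hd
  obtain ⟨⟨h12, h13, h14⟩, ⟨h23, h24⟩, h34, -⟩ := hd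
  have m₁ : c₁ ∈ hzero B := by simp [hH]
  have m₂ : c₂ ∈ hzero B := by simp [hH]
  have m₃ : c₃ ∈ hzero B := by simp [hH]
  have m₄ : c₄ ∈ hzero B := by simp [hH]
  have hs : ∀ f : IrrCharacter G → ℂ, ∑ χ ∈ irrs B, f χ =
      f c₁ + f c₂ + f c₃ + f c₄ + ∑ χ ∈ irrs B \ hzero B, f χ := fun f => by
    rw [← sum_sdiff hzero_subset, add_comm]
    conv_lhs => enter [1]; rw [hH]
    simp [h12, h13, h14, h23, h24, h34, add_assoc]
  have hg : ∀ χ ∈ irrs B, GSpan B (x χ) := fun χ hχ => by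
    rcases hx χ hχ with e | e <;> rw [e]
    exacts [.of_mem (mem_irrs.1 hχ), (GSpan.of_mem (mem_irrs.1 hχ)).neg]
  have hi : ∀ χ ∈ irrs B, ∀ ψ ∈ irrs B, classInner (x χ) (x ψ) = if χ = ψ then 1 else 0 :=
    fun χ hχ ψ hψ => by
      split_ifs with e
      · subst e
        rcases hx χ hχ with e | e <;> simp [e, classInner_neg_left, classInner_neg_right,
          χ.2.inner_self]
      · rcases hx χ hχ with e₁ | e₁ <;> rcases hx ψ hψ with e₂ | e₂ <;>
          simp [e₁, e₂, classInner_neg_left, classInner_neg_right, irr_inner_of_ne e]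
  set E := ∑ χ ∈ irrs B \ hzero B, x χ with hE
  have hE1 : ∀ χ ∈ hzero B, classInner (x χ) E = 0 ∧ classInner E (x χ) = 0 := fun χ hχ => by
    rw [hE, classInner_sum_left, classInner_sum_right]
    constructor <;> refine sum_eq_zero fun ψ hψ => ?_
    · rw [hi _ (hzero_subset hχ) _ (mem_sdiff.1 hψ).1, if_neg (ne_of_mem_of_not_mem hχ (mem_sdiff.1 hψ).2)]
    · rw [hi _ (mem_sdiff.1 hψ).1 _ (hzero_subset hχ),
        if_neg (ne_of_mem_of_not_mem hχ (mem_sdiff.1 hψ).2).symm]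
  have hS' : (#(irrs B \ hzero B) : ℂ) = 2 ^ μ - 1 := by
    rw [eq_sub_iff_add_eq]; exact_mod_cast hS
  have hE2 : classInner E E = 2 ^ μ - 1 := by
    rw [hE, classInner_sum_left, sum_congr rfl fun χ hχ => by
      rw [classInner_sum_right, sum_congr rfl fun ψ hψ => hi _ (mem_sdiff.1 hχ).1 _
        (mem_sdiff.1 hψ).1, sum_ite_eq, if_pos hχ], sum_const, nsmul_eq_mul, hS', mul_one]
  have hEg : GSpan B E := gSpan_sum _ _ fun χ hχ => hg χ (mem_sdiff.1 hχ).1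
  let T := x c₁ + x c₂ - x c₃ - x c₄ - ((2 : ℤ) : ℂ) • E
  let U : ℤ → G → ℂ := fun σ => x c₁ - x c₂ + (σ : ℂ) • (x c₃ - x c₄)
  have g₁ := hg _ (hzero_subset m₁)
  have g₂ := hg _ (hzero_subset m₂)
  have g₃ := hg _ (hzero_subset m₃)
  have g₄ := hg _ (hzero_subset m₄)
  have hi' := fun χ hχ ψ hψ => hi χ (hzero_subset hχ) ψ (hzero_subset hψ)
  have hTU : classInner T T = 4 * 2 ^ μ ∧ ∀ σ : ℤ, classInner T (U σ) = 0 ∧
      classInner (U σ) (U σ) = 2 + 2 * σ ^ 2 := by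
    simp only [T, U, classInner_add_left, classInner_add_right, classInner_sub_left,
      classInner_sub_right, classInner_smul_left, classInner_smul_right, map_intCast, hE2,
      hE1 _ m₁, hE1 _ m₂, hE1 _ m₃, hE1 _ m₄, hi' _ m₁ _ m₁, hi' _ m₁ _ m₂, hi' _ m₁ _ m₃,
      hi' _ m₁ _ m₄, hi' _ m₂ _ m₁, hi' _ m₂ _ m₂, hi' _ m₂ _ m₃, hi' _ m₂ _ m₄, hi' _ m₃ _ m₁,
      hi' _ m₃ _ m₂, hi' _ m₃ _ m₃, hi' _ m₃ _ m₄, hi' _ m₄ _ m₁, hi' _ m₄ _ m₂, hi' _ m₄ _ m₃,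
      hi' _ m₄ _ m₄, h12, h13, h14, h23, h24, h34, Ne.symm h12, Ne.symm h13, Ne.symm h14,
      Ne.symm h23, Ne.symm h24, Ne.symm h34, if_true, if_false]
    exact ⟨by push_cast; ring, fun σ => ⟨by ring, by ring⟩⟩
  have hU4 : ∀ σ ∈ ({1, -1} : Finset ℤ), classInner (U σ) (U σ) = 4 := fun σ hσ => by
    rw [(hTU.2 σ).2]
    rcases mem_insert.1 hσ with rfl | hσ
    · norm_num
    · rw [mem_singleton.1 hσ]; norm_num
  have r₃ : ∀ g, ¬ 2 ∣ orderOf g → x c₃ g = (-(x c₁ + x c₂) - x c₄) g := fun g hg => by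
    have := (hV'' _ hV).1 g hg
    simp only [Pi.add_apply, Pi.sub_apply, Pi.neg_apply] at this ⊢
    linear_combination this
  have rS : ∀ χ ∈ irrs B \ hzero B, ∀ g, ¬ 2 ∣ orderOf g → x χ g = (-(x c₁ + x c₂)) g :=
    fun χ hχ g hg => eq_neg_of_add_eq_zero_right ((hV'' _ (hV' χ hχ)).1 g hg)
  have rT : ∀ g, ¬ 2 ∣ orderOf g → T g = ((2 * 2 ^ μ : ℂ) • (x c₁ + x c₂)) g := fun g hg => by
    simp only [T, hE, Pi.sub_apply, Pi.smul_apply, Finset.sum_apply, r₃ g hg, smul_eq_mul]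
    rw [sum_congr rfl fun χ hχ => rS χ hχ g hg, sum_const, nsmul_eq_mul, hS']
    simp only [Pi.add_apply, Pi.neg_apply]
    push_cast
    ring
  have rU : ∀ (σ : ℤ) g, ¬ 2 ∣ orderOf g →
      U σ g = (x c₁ - x c₂ + (σ : ℂ) • (-(x c₁ + x c₂) - x c₄ - x c₄)) g := fun σ g hg => by
    simp only [U, Pi.add_apply, Pi.smul_apply, Pi.sub_apply, r₃ g hg]
  have tr : (blockRank 2 B : ℂ) * (4 * 2 ^ μ) =
      regInner 2 T T + 2 ^ μ * ∑ σ ∈ {1, -1}, regInner 2 (U σ) (U σ) := by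
    rw [blockRank_eq_sum hm.blk, sum_congr rfl (g := fun χ => regInner 2 (x χ) (x χ)) fun χ hχ => by
      rcases hx χ hχ with e | e <;> simp [e, regInner_eq], hs,
      sum_congr rfl fun χ hχ => regInner_congr (rS χ hχ) (rS χ hχ), sum_const, nsmul_eq_mul, hS',
      sum_pair (by decide), regInner_congr rT rT, regInner_congr (rU _) (rU _),
      regInner_congr (rU _) (rU _), regInner_congr r₃ r₃]
    simp only [← neg_one_smul ℂ (x c₁ + x c₂), regInner_add_left, regInner_add_right,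
      regInner_sub_left, regInner_sub_right, regInner_smul_left, regInner_smul_right, map_mul,
      map_pow, map_ofNat, map_neg, map_one, map_intCast]
    push_cast
    ring
  set I := ({1, -1} : Finset ℤ).filter fun σ => regInner 2 (U σ) (U σ) ≠ 0 with hI
  have hY : ∀ y ∈ X.erase ⟨_, h.zpow_mem (2 ^ μ)⟩, ∃ σ ∈ ({1, -1} : Finset ℤ) \ I, ∃ τ : ℂ,
      τ ≠ 0 ∧ (4 : ℂ) • ω₀.bstar (cind y) c₁ = τ • U σ := fun y hy => by
    have h1 : ¬ ω₀.Fus ⟨_, h.zpow_mem (2 ^ μ)⟩ y := fun e =>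
      (mem_erase.1 hy).1 (hXf _ hz _ (mem_erase.1 hy).2 e).symm
    have h3 := hX (mem_erase.1 hy).2
    obtain ⟨h4, -, h5, h6⟩ := inv_column hm h hk h3 h1 m₁
    set Y := (4 : ℂ) • ω₀.bstar (cind y) c₁ with hY
    have h7 : ∀ χ ∈ irrs B, ∃ n : ℤ, n ^ 2 = co Y χ ^ 2 ∧ classInner (x χ) Y = n ∧
        ∀ g, co Y χ * χ.1 g = n * x χ g := fun χ hχ => by
      have h7 := (cast_co h4.gen χ).trans (h4.gen.inner_comm χ.2.isGeneralizedCharacter)
      rcases hx χ hχ with e | e <;> rw [e]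
      exacts [⟨_, rfl, h7.symm, fun _ => rfl⟩,
        ⟨-co Y χ, by ring, by rw [classInner_neg_left, ← h7]; simp, fun _ => by simp⟩]
    choose! n h8 h9 h10 using h7
    have h11 : ∀ θ, V θ → classInner θ Y = 0 := fun θ hθ => by
      rw [hY, classInner_smul_right, (hV'' θ hθ).2 y h3 h1 _ c₁.2.isClassFunction, mul_zero]
    obtain ⟨χ, hχ⟩ := card_pos.1 (show 0 < #(irrs B \ hzero B) by
      have := Nat.one_lt_two_pow hμ; omega)
    have h12 : ∀ χ ∈ irrs B \ hzero B, n χ = 0 := fun χ hχ =>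
      pow_eq_zero_iff two_ne_zero |>.1 (by rw [h8 χ (mem_sdiff.1 hχ).1, h6 χ hχ]; rfl)
    have h13 := h11 _ hV
    have h14 := h11 _ (hV' χ hχ)
    simp only [classInner_add_left, h9 _ (hzero_subset m₁), h9 _ (hzero_subset m₂),
      h9 _ (hzero_subset m₃), h9 _ (hzero_subset m₄), h9 _ (mem_sdiff.1 hχ).1, h12 χ hχ] at h13 h14
    have h15 := sq_eq_one_iff.1 ((h8 _ (hzero_subset m₁)).trans (h5 _ m₁))
    have h16 := sq_eq_one_iff.1 ((h8 _ (hzero_subset m₃)).trans (h5 _ m₃))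
    have h17 : (n c₁ : ℂ) * n c₁ = 1 := by rcases h15 with e | e <;> simp [e]
    have h18 : Y = (n c₁ : ℂ) • U (n c₁ * n c₃) := funext fun g => by
      rw [GSpan.apply_eq_sum_co h4, sum_congr rfl fun χ hχ => h10 χ hχ g, hs,
        sum_eq_zero fun χ hχ => by rw [h12 χ hχ, Int.cast_zero, zero_mul]]
      simp only [U, Pi.add_apply, Pi.smul_apply, Pi.sub_apply, smul_eq_mul]
      push_cast at h14 ⊢
      linear_combination (x c₂ g - x c₄ g) * h14 + x c₄ g * h13 -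
        n c₃ * (x c₃ g - x c₄ g) * h17
    have h19 := left_ne_zero_of_mul_eq_one h17
    refine ⟨n c₁ * n c₃, mem_sdiff.2 ⟨by
      rcases h15 with e | e <;> rcases h16 with e' | e' <;> simp [e, e'], fun h20 =>
        (mem_filter.1 h20).2 (regInner_eq_zero_of_left (fun g hg => ?_) _)⟩, _, h19, h18⟩
    have h21 := congrFun h18 g
    rw [hY, Pi.smul_apply, bstar_apply_of_regular _ _ hg, cind_of_not fun e =>
      (mem_filter.1 h3).2.1 (fus_one_iff.1 e.symm), zero_mul, smul_zero] at h21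
    exact (mul_eq_zero.1 h21.symm).resolve_left h19
  choose! σ hσ τ hτ hY using hY
  have h3 := card_le_card_of_injOn σ hσ fun y hy y' hy' e => by_contra fun h3 => by
    have h4 := congrArg₂ classInner (hY y hy) (hY y' hy')
    rw [classInner_smul_left, classInner_smul_right, classInner_bstar_cind_cind hm
      (mem_hzero.1 m₁).1, cind_of_not fun h4 => h3 (hXf _ (mem_erase.1 hy).2 _
        (mem_erase.1 hy').2 h4), classInner_smul_left, classInner_smul_right, ← e,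
      hU4 _ (mem_sdiff.1 (hσ y hy)).1] at h4
    simp [hτ y hy, hτ y' hy'] at h4
  rw [card_erase_of_mem hz, card_sdiff_of_subset (filter_subset _ _), card_pair (by decide)] at h3
  have h4 : #I ≤ 2 := (card_le_card (filter_subset _ _)).trans_eq (card_pair (by decide))
  rw [← hI] at h3
  have h5 := card_ne_zero_of_mem hz
  have h6 : ∀ θ : G → ℂ, regInner 2 θ θ = (regInner 2 θ θ).re := fun θ => by
    rw [regInner_self_eq, Complex.ofReal_re]
  rw [← sum_filter_ne_zero, ← hI, h6, sum_congr rfl fun σ _ => h6 _] at tr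
  have tr' : (blockRank 2 B : ℝ) * (4 * 2 ^ μ) = (regInner 2 T T).re +
    2 ^ μ * ∑ σ ∈ I, (regInner 2 (U σ) (U σ)).re := by exact_mod_cast tr
  have h7 : (regInner 2 T T).re ≤ 4 * 2 ^ μ := (regInner_self_re_le T).trans_eq (by
    rw [hTU.1]; norm_cast)
  have h8 : ∀ σ ∈ I, (regInner 2 (U σ) (U σ)).re ≤ 4 := fun σ hσ =>
    (regInner_self_re_le _).trans_eq (by rw [hU4 σ (mem_filter.1 hσ).1]; norm_cast)
  have h9 := sum_le_sum h8
  have h10 : (#I + 1 : ℝ) ≤ blockRank 2 B := by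
    exact_mod_cast (by omega : #I + 1 ≤ blockRank 2 B)
  have h11 : (0 : ℝ) < 2 ^ μ := by positivity
  have h12 : ∑ σ ∈ I, (4 : ℝ) = 4 * #I := by simp [mul_comm]
  have h13 := (sum_eq_sum_iff_of_le h8).1 (h9.antisymm (by nlinarith))
  refine ⟨x c₁, T, U, I, ⟨c₁, m₁, hx _ (hzero_subset m₁)⟩,
    Nat.cast_injective (R := ℝ) (by push_cast; nlinarith),
    (((g₁.add g₂).sub g₃).sub g₄).sub (hEg.smul 2), hTU.1,
    fun g => eq_zero_of_regInner_eq (by
      rw [h6, hTU.1, show (regInner 2 T T).re = 4 * 2 ^ μ by nlinarith]; push_cast; rfl),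
    fun σ _ => (g₁.sub g₂).add ((g₃.sub g₄).smul σ), fun σ hσ => hU4 σ (mem_filter.1 hσ).1,
    fun σ _ => (hTU.2 σ).1, fun σ hσ g => eq_zero_of_regInner_eq (by
      rw [h6, h13 σ hσ, hU4 σ (mem_filter.1 hσ).1]; push_cast; rfl), fun σ hσ => ?_,
    fun g hg => ?_⟩
  · rcases mem_insert.1 (mem_filter.1 hσ).1 with rfl | e
    · convert ((g₁.sub g₄).sub hEg).gen using 1
      ext g; simp [T, U]; ring
    · convert ((g₁.sub g₃).sub hEg).gen using 1
      ext g; simp [T, U, mem_singleton.1 e]; ring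
  · rw [hI, sum_filter_of_ne (f := fun σ => U σ g) fun σ _ h14 =>
      mt (eq_zero_of_regInner_self · hg) h14,
      sum_pair (by decide), rT g hg]
    simp [U]
    ring

end Cfsg.Lib.Tame
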