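import Cfsg.Agent.Lib.Tame.MCBlock
import Cfsg.Agent.Lib.Sym.Block

/-!
# Blocks with a dihedral defect group
-/

set_option autoImplicit false
set_option linter.unusedSectionVars false
set_option linter.dupNamespace false

namespace Cfsg.Lib.Tame

open _root_.Cfsg.Lib.Block MonoidAlgebra Cfsg.Lib.Char Cfsg.Lib.Modular Cfsg.Lib.Transfer Subgroup
open Cfsg.Lib.Inv Prs Finset
open scoped ComplexConjugate

theorem eq_one_of_sq_eq_four {n c : ℤ} {k : ℕ} (h : n ^ 2 = 4) (e : n = 2 ^ k * c)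
    (hc : ¬ 2 ∣ c) : k = 1 := by
  subst e
  obtain _ | _ | k := k
  · exact (hc (Int.prime_two.dvd_of_dvd_pow (n := 2) ⟨2, by simpa using h⟩)).elim
  · rfl
  · have : (2 ^ (k + 1 + 1) * c) ^ 2 = 16 * (2 ^ k * c) ^ 2 := by ring
    omega

theorem classInner_shift_regChar {P : Type*} [Group P] [Fintype P] {z : P} (hz : z * z = 1)
    (φ : P → ℂ) : classInner (shift z (regChar P)) φ = conj (φ z) := by
  rw [classInner_def, sum_eq_single z (fun u _ hu => by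
    rw [shift_apply, regChar_of_ne_one fun e => hu (mul_left_cancel (e.trans hz.symm)), zero_mul])
    (by simp), shift_apply, hz, regChar_one, ← mul_assoc, inv_mul_cancel₀ (card_ne_zero_complex P),
    one_mul]

variable {G : Type*} [Group G] [Fintype G] {M : Ideal AlgInt} [Modular 2 M]
  {B : Set (IrrCharacter G)} {ω₀ ω : Prs G 2 M} {a b : G} {μ : ℕ} {u v : ω₀.grp}
  [Fintype ω₀.grp] (hm : ω₀.IsMax B) (h : MC ω₀.grp a b μ 0 0) (hμ : μ ≠ 0)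
include h

omit [Fintype ω₀.grp] in
theorem dih_mem (h2 : (u : G) * u ≠ 1) : (u : G) ∈ zpowers a := by
  by_contra h1
  obtain ⟨i, hi⟩ := h.exists_refl u.2 h1
  exact h2 (by rw [hi, h.refl_sq]; simp)

include hm hμ

theorem dih_cfour : cfour ω₀ = 1 := by
  classical
  have h1 := sum_cls_of_two hm h (j := 0) μ.zero_le (U := {u | (u : G) * u ≠ 1})
    (fun u => by
      rw [mem_filter_univ, zero_add, pow_one, sq]
      exact ⟨fun h1 => ⟨dih_mem h h1, h1⟩, And.right⟩)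
    fun u hu => cls_eq_two hm h (dih_mem h (mem_filter.1 hu).2) (mem_filter.1 hu).2
      fun v e => dih_mem h (mt (Fus.mul_self_iff e).2 (mem_filter.1 hu).2)
  have h2 := sum_cls_split hm h hμ (fun u => if (u : G) * u ≠ 1 then 1 else 0) (c := 1) (d := 1)
    (fun u h2 _ => if_pos h2) fun u h2 => if_pos (mt pow_four_of_mul_self h2)
  rw [sum_eq_zero (s := invs ω₀) fun u hu => by simp [(mem_filter.1 hu).2.2]] at h2
  simp only [mul_ite, mul_one, mul_zero, ← sum_filter, h1] at h2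
  simp only [OneMemClass.coe_one, mul_one, ne_eq, not_true_eq_false, if_false] at h2
  linear_combination -h2

open Classical in
theorem dih_card : ∃ X ⊆ invs ω₀, ⟨_, h.zpow_mem (2 ^ μ)⟩ ∈ X ∧
    (∀ x ∈ X, ∀ y ∈ X, ω₀.Fus x y → x = y) ∧ (∀ v ∈ invs ω₀, ∃ x ∈ X, ω₀.Fus x v) ∧
    Nat.card B + 1 = blockRank 2 B + #X + 2 ^ μ := by
  obtain ⟨X, h1, h2, h3, h4, h5⟩ := exists_transversal (u := ⟨_, h.zpow_mem (2 ^ μ)⟩) (invs ω₀)
    (fun _ hu _ => mem_invs_of_fus hu) (by simp [h.z_mul_self, h.z_ne_one])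
  refine ⟨X, h1, h2, h3, h4, Nat.cast_injective (R := ℂ) ?_⟩
  have h6 := card_eq_add hm h hμ
  rw [h5 _ (stable_rk hm), dih_cfour hm h hμ, sum_congr rfl fun x hx => by
    rw [rk_eq_one hm h (mem_filter.1 (h1 hx)).2.1 (Or.inr ⟨rfl, rfl⟩)]] at h6
  rw [Nat.cast_add, h6]
  simp only [sum_const, nsmul_eq_mul]
  push_cast
  ring

open Classical in
theorem dih_family : ∃ (A : ℕ → G → ℂ) (P : Finset (IrrCharacter G)) (e : ℕ → IrrCharacter G),
    (∀ j ∈ Ioc 0 (2 ^ μ), GSpan B (A j) ∧ (∀ g, ¬ 2 ∣ orderOf g → A j g = 0) ∧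
      ∀ y ∈ invs ω₀, ¬ ω₀.Fus ⟨_, h.zpow_mem (2 ^ μ)⟩ y → ∀ ψ, IsClassFunction G ψ →
        classInner (A j) (ω₀.bstar (cind y) ψ) = 0) ∧
    #(hzero B) = 4 ∧ (∀ χ ∈ hzero B, co (A (2 ^ μ)) χ ^ 2 = 1) ∧
    (∀ χ ∈ irrs B \ hzero B, co (A (2 ^ μ)) χ = 0 ∧ blockHeight 2 B χ.1 = 1) ∧
    P ⊆ hzero B ∧ #P = 2 ∧ Set.InjOn e (Ioo 0 (2 ^ μ)) ∧
    irrs B \ hzero B = (Ioo 0 (2 ^ μ)).image e ∧ ∀ j ∈ Ioo 0 (2 ^ μ), co (A j) (e j) ^ 2 = 1 ∧
      ∀ χ ∈ irrs B, co (A j) χ =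
        if χ ∈ P then co (A (2 ^ μ)) χ else if χ = e j then co (A j) (e j) else 0 := by
  set z : ω₀.grp := ⟨_, h.zpow_mem (2 ^ μ)⟩ with hz
  have hz2 : z * z = 1 := Subtype.ext h.z_mul_self
  have hz1 : z ≠ 1 := fun e => h.z_ne_one (congrArg Subtype.val e)
  obtain ⟨Φ, hΦ⟩ := exists_indLoc_sec hm h (v := z) (zpow_mem (mem_zpowers a) _) hz1
    (pow_four_of_mul_self h.z_mul_self) (Or.inr ⟨rfl, rfl⟩)
  obtain ⟨η, hη⟩ := exists_eta (mc_top h)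
  obtain ⟨ζ', hζ'⟩ := HasEnoughRootsOfUnity.exists_primitiveRoot ℂ (2 ^ (μ + 1))
  obtain ⟨ζ, rfl⟩ := hζ'.isUnit (by positivity)
  have hζ := IsPrimitiveRoot.coe_units_iff.1 hζ'
  have hn : 0 < 2 ^ μ := by positivity
  have hnm : 2 ^ μ ∈ Ioc 0 (2 ^ μ) := mem_Ioc.2 ⟨hn, le_rfl⟩
  have hs : Ioo 0 (2 ^ μ) ⊆ Ioc 0 (2 ^ μ) := Ioo_subset_Ioc_self
  have h1 : ζ ^ 2 ^ μ = -1 := Units.ext (by
    simpa using (hζ'.pow (by positivity) (pow_succ 2 μ)).eq_neg_one_of_two_right)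
  have h2 : ∀ j, (ζ ^ j) ^ 2 ^ (μ + 1) = 1 := fun j => by
    rw [← pow_mul, mul_comm, pow_mul, hζ.pow_eq_one, one_pow]
  have h3 : ∀ j ∈ Ioc 0 (2 ^ μ), ζ ^ j ≠ 1 := fun j hj => hζ.pow_ne_one_of_pos_of_lt
    (mem_Ioc.1 hj).1.ne' (by have := mem_Ioc.1 hj; omega)
  have hA : ∀ j, Adm ω₀ (ω₀.sec z) (η (ζ ^ j)) := fun j => ⟨(hη _ (h2 j)).1, fun u hu => by
    obtain ⟨i, rfl, hi⟩ := (hη _ (h2 j)).2.1 u hu
    rw [grp_sec, zpowers_le]
    refine mc_z_mem h (zpow_mem (mem_zpowers a) i) fun e => hi ?_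
    obtain ⟨k, rfl⟩ := h.zpow_eq_one_iff.1 e
    rw [zpow_mul, ← Nat.cast_two, ← Nat.cast_pow, zpow_natCast, h2, one_zpow]⟩
  have hG : ∀ j ∈ Ioc 0 (2 ^ μ), ∀ k ∈ Ioc 0 (2 ^ μ), classInner (η (ζ ^ j)) (η (ζ ^ k)) =
      ((2 + (if j = k then 1 else 0) + if j + k = 2 ^ (μ + 1) then 1 else 0 : ℤ) : ℂ) :=
    fun j hj k hk => by
      have := mem_Ioc.1 hj
      have := mem_Ioc.1 hk
      rw [(hη _ (h2 j)).2.2.2.1 _ (h2 k) (h3 j hj) (h3 k hk), zero_mul, zero_sub, zpow_neg_one]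
      simp only [eq_inv_iff_mul_eq_one, ← pow_add, hζ.pow_eq_one_iff_dvd,
        show ζ ^ j = ζ ^ k ↔ j = k from ⟨hζ.pow_inj (by omega) (by omega), fun e => e ▸ rfl⟩,
        show 2 ^ (μ + 1) ∣ j + k ↔ j + k = 2 ^ (μ + 1) from ⟨fun e =>
          le_antisymm (by omega) (Nat.le_of_dvd (by omega) e), fun e => e ▸ dvd_rfl⟩]
      push_cast
      rfl
  have hG' := fun j hj k hk => sum_co_mul (hΦ.gspan _ (hA j)) (hΦ.gspan _ (hA k)).gen
    ((hΦ.inner _ _ (hA j) (hA k)).trans (hG j hj k hk))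
  obtain ⟨h4, h5, h6⟩ := hΦ.norm_four hm (hA (2 ^ μ))
    (by rw [hG _ hnm _ hnm, if_pos rfl, if_pos (by ring)]; norm_num) ((hη _ (h2 _)).2.2.2.2 h1)
  have hzc : z ∈ center ω₀.grp := mem_center_iff.2 fun g => Subtype.ext (h.z_comm g.2)
  have h7 : ∀ ξ : IrrCharacter ω₀.grp, ∃ n : ℤ,
      classInner (shift z (regChar ω₀.grp)) ξ = (ξ : ω₀.grp → ℂ) 1 + 2 * n := fun ξ => by
    rw [classInner_shift_regChar hz2]
    rcases div_eq_one_or hzc hz2 ξ with e | e <;> rw [div_eq_iff ξ.2.apply_one_ne_zero] at e <;>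
      rw [e, ξ.2.apply_one_eq]
    exacts [⟨0, by simp⟩, ⟨-charDegree (ξ : ω₀.grp → ℂ), by simp; ring⟩]
  have hτ : Adm ω₀ (ω₀.sec z) (shift z (regChar ω₀.grp)) :=
    ⟨(isClassFunction_shift hzc isCharacter_regChar.isClassFunction
      ).isGeneralizedCharacter_of_inner_int fun ξ hξ => (h7 ⟨ξ, hξ⟩).elim fun n hn =>
        ⟨charDegree ξ + 2 * n, by rw [hn]; simp [hξ.apply_one_eq]⟩, fun u hu => by
      rw [grp_sec, mul_left_cancel ((by_contra fun e => hu (regChar_of_ne_one e)).trans hz2.symm)]⟩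
  have ht := hΦ.gspan _ hτ
  have h8 : ∀ j, ∑ χ ∈ irrs B, co (Φ (shift z (regChar ω₀.grp))) χ * co (Φ (η (ζ ^ j))) χ =
      2 * (-1) ^ j - 2 := fun j => sum_co_mul ht (hΦ.gspan _ (hA j)).gen (by
    rw [hΦ.inner _ _ hτ (hA j), classInner_shift_regChar hz2,
      show z = ⟨a, h.a_mem⟩ ^ (2 : ℤ) ^ μ from rfl, (hη _ (h2 j)).2.2.1, ← Nat.cast_two,
      ← Nat.cast_pow, zpow_natCast, ← pow_mul, mul_comm, pow_mul, h1]
    rcases neg_one_pow_eq_or ℂˣ j with e | e <;> have e' := congrArg Units.val e <;>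
      simp only [Units.val_pow_eq_pow_val, Units.val_neg, Units.val_one] at e' <;>
      simp [e, e', map_ofNat] <;> norm_num)
  have hd : (2 : ℂ) ^ blockDefect 2 B = Nat.card ω₀.grp := by rw [hm.card_grp]; simp
  obtain ⟨χ₀, hχ₀, h0⟩ := exists_height_zero 2 hm.blk.nonempty
  have h9 := fun χ => exists_co_eq_pow_mul (p := 2) (ψ := χ) hm.blk ht.gen (hΦ.mem _ hτ _ fun u => by
      rw [shift_apply, regChar_apply, Nat.cast_two, hd]
      split_ifs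
      · rw [inv_mul_cancel₀ (card_ne_zero_complex _)]; exact one_mem _
      · rw [mul_zero]; exact zero_mem _) hχ₀ h0
    ((not_dvd_co_iff ht.gen).2 ((hΦ.par _ hτ h7 χ₀ hχ₀).2 h0))
  obtain ⟨P, h10, h11, e, h12, h13, h14, h15⟩ := family_shape hzero_subset h5 h6 hn
    (by simp [Nat.even_pow, hμ]) (x := fun j => co (Φ (η (ζ ^ j))))
    (fun j hj k hk => by
      have := mem_Ioo.1 hj
      have := mem_Ioo.1 hk
      rw [hG' j (hs hj) k (hs hk), if_neg (by omega : j + k ≠ _), add_zero])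
    (fun j hj => by
      have := mem_Ioo.1 hj
      rw [hG' j (hs hj) _ hnm, if_neg (by omega), if_neg (by omega)]; rfl) h4
    (sum_co_sq ht (by
      rw [hΦ.inner _ _ hτ hτ, classInner_shift_regChar hz2, shift_apply, hz2, regChar_one,
        h.card_eq]
      simp [map_ofNat]; ring))
    (by rw [h8, Even.neg_one_pow (by simp [Nat.even_pow, hμ])]; rfl) (fun j _ => h8 j)
    (fun χ hχ e => by
      obtain ⟨c, h1, h2⟩ := h9 χ (mem_irrs.1 hχ)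
      exact h2 ((mul_eq_zero.1 (h1.symm.trans e)).resolve_left (by positivity) ▸ dvd_zero _))
    (fun h3 => by
      obtain ⟨X, -, h10, -, -, h11⟩ := dih_card hm h hμ
      have h12 := card_ne_zero_of_mem h10
      have h13 := blockRank_pos (p := 2) hm.blk
      have h14 : 2 ∣ 2 ^ μ := dvd_pow_self 2 hμ
      rw [← card_eq_card_filter]
      by_contra h15
      have h16 := Sym.pow_eq_of_rank_one_five hm.blk (by omega) (by omega)
      rw [← hm.card_grp, h.card_eq, pow_add] at h16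
      omega)
  refine ⟨fun j => Φ (η (ζ ^ j)), P, e, fun j hj => ⟨hΦ.gspan _ (hA j), fun g hg => ?_,
    fun y hy h16 => hΦ.orth _ (hA j) _ (stable_cind y) fun g v hg hv => cind_of_not fun h17 => ?_⟩,
    h4, h5, fun χ hχ => ⟨h6 χ hχ, ?_⟩, h10, h11, h12, h13, h15⟩
  · by_contra h16
    obtain ⟨u, hu, h17⟩ := hΦ.supp _ (hA j) g h16
    have h18 := (hA j).supp u hu
    rw [pPart_of_not_dvd Nat.prime_two hg, isConj_one_right] at h17
    rw [h17, grp_sec, zpowers_one_eq_bot, le_bot_iff, zpowers_eq_bot] at h18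
    exact h.z_ne_one h18
  · rw [grp_sec, conj_zpowers, zpowers_le] at hv
    refine h16 ((fus_of_le (sec_le z) hg (grp_sec z ▸ mem_zpowers _) ?_).trans h17.symm)
    have h18 := (mem_filter.1 (mem_invs_of_fus hy h17)).2
    exact eq_of_isCyclic_of_orderOf_two inferInstance hv (mem_zpowers _)
      ((orderOf_eq_of_isConj (isConj_iff.2 ⟨g, rfl⟩)).symm.trans h.z_ord)
      (ord_two_iff.2 ⟨by simpa using h18.1, h18.2⟩)
  · obtain ⟨c, h1, h2⟩ := h9 χ (mem_irrs.1 (mem_sdiff.1 hχ).1)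
    exact eq_one_of_sq_eq_four (h14 χ hχ) h1 h2

open Classical in
theorem dih_signed : ∃ (c₁ c₂ c₃ c₄ : IrrCharacter G) (x : IrrCharacter G → G → ℂ)
    (V : (G → ℂ) → Prop), hzero B = {c₁, c₂, c₃, c₄} ∧ [c₁, c₂, c₃, c₄].Nodup ∧
    #(irrs B \ hzero B) + 1 = 2 ^ μ ∧ (∀ χ ∈ irrs B \ hzero B, blockHeight 2 B χ.1 = 1) ∧
    (∀ χ ∈ irrs B, x χ = χ ∨ x χ = -χ.1) ∧ V (x c₁ + x c₂ + x c₃ + x c₄) ∧
    (∀ χ ∈ irrs B \ hzero B, V (x c₁ + x c₂ + x χ)) ∧ ∀ θ, V θ →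
      (∀ g, ¬ 2 ∣ orderOf g → θ g = 0) ∧ ∀ y ∈ invs ω₀, ¬ ω₀.Fus ⟨_, h.zpow_mem (2 ^ μ)⟩ y →
        ∀ ψ, IsClassFunction G ψ → classInner θ (ω₀.bstar (cind y) ψ) = 0 := by
  obtain ⟨A, P, e, h1, h2, h3, h4, h5, h6, h7, h8, h9⟩ := dih_family hm h hμ
  have hn : 0 < 2 ^ μ := by positivity
  obtain ⟨c₁, c₂, h12, rfl⟩ := card_eq_two.1 h6
  obtain ⟨c₃, c₄, h34, h10⟩ := card_eq_two.1
    (show #(hzero B \ {c₁, c₂}) = 2 by rw [card_sdiff_of_subset h5, h2, h6])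
  have h11 : hzero B = {c₁, c₂, c₃, c₄} := by
    rw [← union_sdiff_of_subset h5, h10]; ext; simp; tauto
  have h12' : ∀ χ ∈ ({c₃, c₄} : Finset _), χ ≠ c₁ ∧ χ ≠ c₂ := fun χ hχ => by
    simpa only [mem_insert, mem_singleton, not_or] using (mem_sdiff.1 (h10.ge hχ)).2
  have h13 := h12' c₃ (by simp)
  have h14 := h12' c₄ (by simp)
  have h15 := fun χ (hχ : χ ∈ irrs B \ hzero B) => mem_image.1 (h8 ▸ hχ)
  choose! j hj hj' using h15
  let s : IrrCharacter G → ℤ := fun χ => if χ ∈ hzero B then co (A (2 ^ μ)) χ else co (A (j χ)) χ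
  have h16 : ∀ χ ∈ hzero B, s χ = co (A (2 ^ μ)) χ := fun χ hχ => if_pos hχ
  refine ⟨c₁, c₂, c₃, c₄, fun χ => (s χ : ℂ) • χ.1, fun θ => ∃ j ∈ Ioc 0 (2 ^ μ), θ = A j, h11,
    by simp [h12, h34, h13.1.symm, h13.2.symm, h14.1.symm, h14.2.symm],
    by rw [h8, card_image_of_injOn h7, Nat.card_Ioo]; omega, fun χ hχ => (h4 χ hχ).2,
    fun χ hχ => ?_, ⟨_, mem_Ioc.2 ⟨hn, le_rfl⟩, funext fun g => ?_⟩,
    fun χ hχ => ⟨_, Ioo_subset_Ioc_self (hj χ hχ), funext fun g => ?_⟩,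
    fun _ ⟨j, hj, e⟩ => e ▸ (h1 j hj).2⟩
  · have : s χ ^ 2 = 1 := by
      simp only [s]
      split_ifs with h17
      · exact h3 χ h17
      · have h18 := mem_sdiff.2 ⟨hχ, h17⟩
        simpa only [hj' χ h18] using (h9 _ (hj χ h18)).1
    rcases sq_eq_one_iff.1 this with e | e <;> simp [e]
  · rw [GSpan.apply_eq_sum_co (h1 _ (mem_Ioc.2 ⟨hn, le_rfl⟩)).1, ← sum_sdiff hzero_subset,
      sum_eq_zero fun χ hχ => by rw [(h4 χ hχ).1, Int.cast_zero, zero_mul],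
      sum_congr rfl fun χ hχ => by rw [← h16 χ hχ], h11]
    simp [h12, h34, h13.1.symm, h13.2.symm, h14.1.symm, h14.2.symm, add_assoc]
  · have h17 := (mem_sdiff.1 hχ).2
    have h18 : c₁ ≠ χ ∧ c₂ ≠ χ :=
      ⟨fun e => h17 (e ▸ h5 (by simp)), fun e => h17 (e ▸ h5 (by simp))⟩
    rw [GSpan.apply_eq_sum_co (h1 _ (Ioo_subset_Ioc_self (hj χ hχ))).1,
      ← sum_subset (s₁ := {c₁, c₂, χ}) (by
        simp [insert_subset_iff, (mem_sdiff.1 hχ).1, hzero_subset (h5 (mem_insert_self _ _)),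
          hzero_subset (h5 (mem_insert_of_mem (mem_singleton_self _)))]) fun ψ h19 h20 => by
        simp only [mem_insert, mem_singleton, not_or] at h20
        rw [(h9 _ (hj χ hχ)).2 ψ h19, if_neg (by simp [h20]), hj' χ hχ, if_neg h20.2.2,
          Int.cast_zero, zero_mul]]
    simp [h12, h18, show s χ = _ from if_neg h17, h16 _ (h5 (mem_insert_self _ _)),
      h16 _ (h5 (mem_insert_of_mem (mem_singleton_self _))),
      (h9 _ (hj χ hχ)).2 c₁ (hzero_subset (h5 (mem_insert_self _ _))), add_assoc,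
      (h9 _ (hj χ hχ)).2 c₂ (hzero_subset (h5 (mem_insert_of_mem (mem_singleton_self _))))]

theorem dih_card_eq : Nat.card B = 2 ^ μ + 3 := by
  classical
  obtain ⟨c₁, c₂, c₃, c₄, -, -, -, -, h1, -⟩ := dih_signed hm h hμ
  have h2 := (exists_alpha hm h hμ).choose_spec.2.1
  have := card_sdiff_add_card_eq_card (hzero_subset (B := B))
  rw [card_eq_card_filter]
  change #(irrs B) = _
  omega

end Cfsg.Lib.Tame
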