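import Cfsg.Agent.Lib.Tame.Sub
import Cfsg.Agent.Lib.Tame.Group
import Cfsg.Agent.Lib.Tame.Comb

/-!
# Blocks with a defect group of maximal class: fusion, local blocks, height zero
-/

set_option autoImplicit false
set_option linter.unusedSectionVars false
set_option linter.dupNamespace false

namespace Cfsg.Lib.Tame

open _root_.Cfsg.Lib.Block MonoidAlgebra Cfsg.Lib.Char Cfsg.Lib.Modular Cfsg.Lib.Transfer Subgroup
open Cfsg.Lib.Inv Prs Finset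
open scoped ComplexConjugate

section Co

variable {G : Type*} [Group G] [Fintype G] {p : ℕ} [hp : Fact p.Prime] {M : Ideal AlgInt}
  [Modular p M] {B : Set (IrrCharacter G)} {θ φ : G → ℂ} {χ ψ : IrrCharacter G}

/-- The multiplicity of an irreducible character in a generalized character. -/
noncomputable def co (θ : G → ℂ) (χ : IrrCharacter G) : ℤ := ⌊(classInner θ χ).re⌋

theorem co_eq {n : ℤ} (h : classInner θ χ = n) : co θ χ = n := by simp [co, h]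

theorem cast_co (h : IsGeneralizedCharacter G θ) (χ : IrrCharacter G) :
    (co θ χ : ℂ) = classInner θ χ := by
  obtain ⟨n, hn⟩ := h.exists_inner_eq_int χ.2.isGeneralizedCharacter
  rw [co_eq hn, hn]

open Classical in
theorem sum_co_mul (h : GSpan B θ) (h' : IsGeneralizedCharacter G φ) {n : ℤ}
    (e : classInner θ φ = n) : ∑ χ with χ ∈ B, co θ χ * co φ χ = n := by
  refine Int.cast_injective (α := ℂ) ?_
  rw [← e, h.span.inner_eq_sum h.cls, Int.cast_sum]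
  exact sum_congr rfl fun χ _ => by
    rw [Int.cast_mul, cast_co h.gen, cast_co h', h'.inner_comm χ.2.isGeneralizedCharacter]

open Classical in
theorem sum_co_sq (h : GSpan B θ) {n : ℤ} (e : classInner θ θ = n) :
    ∑ χ with χ ∈ B, co θ χ ^ 2 = n := by
  simpa only [sq] using sum_co_mul h h.gen e

open Classical in
theorem GSpan.apply_eq_sum_co (h : GSpan B θ) (g : G) :
    θ g = ∑ χ with χ ∈ B, co θ χ * (χ : G → ℂ) g := by
  simp only [cast_co h.gen]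
  exact h.span.apply_eq_sum h.cls g

theorem not_dvd_co_iff (h : IsGeneralizedCharacter G θ) :
    ¬ (p : ℤ) ∣ co θ χ ↔ red M (classInner θ χ) ≠ 0 := by
  rw [← cast_co h, Ne, red_intCast_eq_zero_iff]

omit [Fintype G] in
theorem exists_eq_pow_mul {n : ℤ} {k : ℕ} (h : red M ((n : ℂ) / p ^ k) ≠ 0) :
    ∃ c : ℤ, n = p ^ k * c ∧ ¬ (p : ℤ) ∣ c := by
  have h1 := mul_div_cancel₀ (n : ℂ) (pow_ne_zero_complex (p := p) k)
  obtain ⟨c, hc⟩ := exists_int_of_pow_mul_eq M (mem_locRing_of_red_ne_zero h) h1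
  rw [hc] at h h1
  exact ⟨c, by exact_mod_cast h1.symm, mt (red_intCast_eq_zero_iff c).2 h⟩

theorem exists_co_eq_pow_mul (hB : IsPBlock M B) (h : IsGeneralizedCharacter G θ)
    (h1 : ∀ g, ((p : ℂ) ^ blockDefect p B)⁻¹ * θ g ∈ locRing M) (hχ : χ ∈ B)
    (h0 : blockHeight p B (χ : G → ℂ) = 0) (h2 : ¬ (p : ℤ) ∣ co θ χ) (hψ : ψ ∈ B) :
    ∃ c : ℤ, co θ ψ = p ^ blockHeight p B (ψ : G → ℂ) * c ∧ ¬ (p : ℤ) ∣ c := by
  have e : ∀ ξ : IrrCharacter G, (co θ ξ : ℂ) / p ^ blockHeight p B (ξ : G → ℂ) =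
      (p : ℂ) ^ blockDefect p B * (ξ : G → ℂ) 1 /
        ((p : ℂ) ^ blockHeight p B (ξ : G → ℂ) * Nat.card G) * (Nat.card G / (ξ : G → ℂ) 1 *
          classInner ξ (((p : ℂ) ^ blockDefect p B)⁻¹ • θ)) := fun ξ => by
    have := card_ne_zero_complex G
    have := ξ.2.apply_one_ne_zero
    have := pow_ne_zero_complex (p := p) (blockHeight p B (ξ : G → ℂ))
    have := pow_ne_zero_complex (p := p) (blockDefect p B)
    rw [cast_co h, h.inner_comm ξ.2.isGeneralizedCharacter, classInner_smul_right, map_inv₀,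
      map_pow, map_natCast]
    field_simp
  have key := fun (ξ ζ : IrrCharacter G) hξ hζ => red_card_div_mul_classInner (ξ := ξ) (ζ := ζ) hB
    hξ hζ (h.isClassFunction.smul ((p : ℂ) ^ blockDefect p B)⁻¹) fun g => by
      rw [Pi.smul_apply, smul_eq_mul, map_mul, map_inv₀, map_pow, map_natCast, ← h.apply_inv]
      exact h1 _
  have h3 := red_pow_mul_degree_div_height (M := M) (p := p) hψ
  have h4 := red_pow_mul_degree_div_height (M := M) (p := p) hχ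
  have h5 := mt (red_intCast_eq_zero_iff (M := M) _).1 h2
  rw [← div_one (co θ χ : ℂ), ← pow_zero (p : ℂ), ← h0, e,
    red_mul (mem_locRing_of_red_ne_zero h4) (key χ ψ hχ hψ).1, (key χ ψ hχ hψ).2] at h5
  refine exists_eq_pow_mul (M := M) ?_
  rw [e, red_mul (mem_locRing_of_red_ne_zero h3) (key ψ χ hψ hχ).1]
  exact mul_ne_zero h3 (right_ne_zero_of_mul h5)

open Classical in
/-- The members of a block. -/
noncomputable abbrev irrs (B : Set (IrrCharacter G)) : Finset (IrrCharacter G) := {χ | χ ∈ B}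

open Classical in
/-- The members of height zero of a 2-block. -/
noncomputable abbrev hzero (B : Set (IrrCharacter G)) : Finset (IrrCharacter G) :=
  {χ | χ ∈ B ∧ blockHeight 2 B χ.1 = 0}

theorem mem_irrs : χ ∈ irrs B ↔ χ ∈ B := by simp

theorem mem_hzero : χ ∈ hzero B ↔ χ ∈ B ∧ blockHeight 2 B χ.1 = 0 := by simp

theorem hzero_subset : hzero B ⊆ irrs B := fun _ h => mem_irrs.2 (mem_hzero.1 h).1

theorem hzero_nonempty (h : B.Nonempty) : (hzero B).Nonempty :=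
  (exists_height_zero 2 h).imp fun _ h => mem_hzero.2 h

theorem iff_mem_hzero {P : IrrCharacter G → Prop}
    (h : ∀ χ ∈ B, P χ ↔ blockHeight 2 B χ.1 = 0) : ∀ χ ∈ irrs B, P χ ↔ χ ∈ hzero B :=
  fun χ hχ => by rw [h χ (mem_irrs.1 hχ), mem_hzero, and_iff_right (mem_irrs.1 hχ)]

theorem card_hzero :
    Nat.card {χ : IrrCharacter G // χ ∈ B ∧ blockHeight 2 B χ.1 = 0} = #(hzero B) := by
  classical
  rw [Nat.card_eq_fintype_card, Fintype.card_subtype]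

end Co

variable {G : Type*} [Group G] [Fintype G] {M : Ideal AlgInt} [Modular 2 M]
  {B : Set (IrrCharacter G)} {ω₀ ω : Prs G 2 M} {a b : G} {μ : ℕ} {ε δ : ℤ} {u v : ω₀.grp}
  (hm : ω₀.IsMax B) (h : MC ω₀.grp a b μ ε δ)
include h

theorem mc_cent_of_odd' {Q : Subgroup G} (hQ : Q ≤ ω₀.grp) {g : G}
    (hg : g ∈ normalizer (Q : Set G)) (ho : ¬ 2 ∣ orderOf g) (h1 : v ≠ 1)
    (e : g ∈ centralizer {(v : G)}) (hz : (v : G) ≠ a ^ (2 : ℤ) ^ μ ∨ ε = 0 ∧ δ = 0) :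
    g ∈ centralizer (Q : Set G) :=
  centralizer_le (le_sup_left (a := Q)) (mc_cent_of_odd h (sup_le hQ (zpowers_le.2 v.2))
    (normalizer_inf_normalizer_le_normalizer_sup _ _
      ⟨hg, centralizer_le_normalizer _ (by rwa [Block.centralizer_zpowers])⟩)
    (Nat.odd_iff.2 (by omega)) (mem_sup_right (mem_zpowers _)) (by simpa using h1)
    (by rw [mem_centralizer_singleton_iff.1 e, mul_inv_cancel_right]) hz)

include hm

theorem rk_eq_one (h1 : u ≠ 1)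
    (hz : (∀ v, ω₀.Fus u v → (v : G) ≠ a ^ (2 : ℤ) ^ μ) ∨ ε = 0 ∧ δ = 0) :
    blockRank 2 (ω₀.blkAt u) = 1 :=
  blockRank_blkAt_eq_one hm fun v hv _ hQ _ hx h2 h3 => mc_cent_of_odd' h (hQ.trans inf_le_left)
    h2 h3 (fun e => h1 (fus_one_iff.1 (e ▸ hv).symm)) hx (hz.imp_left fun h => h v hv)

theorem fus_cases (hu : (u : G) ∈ zpowers a) (hv : (v : G) ∈ zpowers a) (e : ω₀.Fus u v) :
    v = u ∨ (v : G) = b * u * b⁻¹ := by
  obtain ⟨d, hd, h1⟩ := exists_conj_of_fus hm (mc_le_normalizer h hu) e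
    (zpowers_eq_of_orderOf_eq hu hv (orderOf_eq_of_isConj e.isConj))
  exact (mc_conj_cases h hd hu).imp (fun e => Subtype.ext (h1.symm.trans e)) h1.symm.trans

theorem cls_eq_two (hu : (u : G) ∈ zpowers a) (h2 : (u : G) * u ≠ 1)
    (ho : ∀ v, ω₀.Fus u v → (v : G) ∈ zpowers a) : ω₀.cls u = 2 := by
  let u' : ω₀.grp := ⟨b, h.b_mem⟩ * u * (⟨b, h.b_mem⟩ : ω₀.grp)⁻¹
  refine Nat.card_eq_two_iff.2 ⟨⟨u, Fus.refl u⟩, ⟨u', fus_of_isConj (isConj_iff.2 ⟨_, rfl⟩)⟩,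
    fun e => h2 ((mc_conj_eq_iff h hu 0).1 ?_), Set.eq_univ_of_forall fun v => ?_⟩
  · simpa [u'] using congrArg (fun x => (x.1 : G)) e.symm
  · exact (fus_cases hm h hu (ho _ v.2) v.2).imp Subtype.ext fun e => Subtype.ext (Subtype.ext e)

theorem mem_of_fus_of_pow_four (h4 : (u : G) ^ 4 ≠ 1) (e : ω₀.Fus u v) : (v : G) ∈ zpowers a :=
  mc_mem_of_pow_four h v.2 fun h5 => h4 (by
    rwa [← orderOf_dvd_iff_pow_eq_one, orderOf_eq_of_isConj e.isConj, orderOf_dvd_iff_pow_eq_one])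

theorem cls_eq_two_of_pow_four (h4 : (u : G) ^ 4 ≠ 1) : ω₀.cls u = 2 :=
  cls_eq_two hm h (mc_mem_of_pow_four h u.2 h4) (fun e => h4 (by
    rw [show 4 = 2 * 2 from rfl, pow_mul, sq (u : G), e, one_pow]))
    fun _ => mem_of_fus_of_pow_four hm h h4

theorem not_fus_of_pow_four (h4 : (u : G) ^ 4 ≠ 1) (e : a ^ (2 : ℤ) ^ μ * u = v) :
    ¬ ω₀.Fus u v := fun h1 => by
  have hu := mc_mem_of_pow_four h u.2 h4
  rcases fus_cases hm h hu (mem_of_fus_of_pow_four hm h h4 h1) h1 with rfl | h2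
  · exact h.z_ne_one (mul_eq_right.1 e)
  · exact h4 (mc_pow_four_of_conj_eq h hu (h2.symm.trans e.symm))

variable [Fintype ω₀.grp]

theorem exists_indLoc_sec (hv : (v : G) ∈ zpowers a) (h1 : v ≠ 1) (h4 : (v : G) ^ 4 = 1)
    (hz : (v : G) ≠ a ^ (2 : ℤ) ^ μ ∨ ε = 0 ∧ δ = 0) : ∃ Φ, IndLoc B ω₀ (ω₀.sec v) Φ := by
  have hN : ω₀.grp ≤ normalizer ((ω₀.sec v).grp : Set G) := grp_sec v ▸ mc_le_normalizer h hv
  have hD : ω₀.grp ≤ MulAction.stabilizer G (ω₀.sec v) := fun d hd =>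
    smul_eq_of_le (sec_le v) (smul_eq_of_mem hd) (hN hd)
  have hC := (ω₀.sec v).centralizer_le_stabilizer'
  have h2 := isMaxPair_over hm (sec_le v) hD hC le_rfl
  refine exists_indLoc hm (sec_le v) hN (fun g hg => ?_) (by simpa [grp_sec] using h1)
    (isNilIn_of_forall h2.blk h2.3 fun Q hQ x hx h3 h5 => mc_cent_of_odd' h hQ h3 h5 h1 ?_ hz)
  · rw [grp_sec] at hg hC
    rw [Block.centralizer_zpowers] at hC
    obtain ⟨k, hk⟩ := mem_zpowers_iff.1 ((mem_normalizer_iff.1 hg v).1 (mem_zpowers _))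
    have h3 : ∀ i : ℤ, (v : G) ^ (4 * i) = 1 := fun i => by
      rw [zpow_mul, show (v : G) ^ (4 : ℤ) = 1 by exact_mod_cast h4, one_zpow]
    have h5 : (v : G) ^ k = v ∨ (v : G) ^ k = (v : G)⁻¹ := by
      obtain ⟨i, rfl | rfl⟩ := Int.even_or_odd' k
      · have h6 : (v : G) * v = 1 := by
          rw [← conj_eq_one_iff (a := g), ← conj_mul, ← hk, ← zpow_add, ← h3 i]; congr 1; ring
        have h7 : g * v * g⁻¹ = 1 := by rw [← hk, zpow_mul, zpow_two, h6, one_zpow]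
        exact (h1 (by simpa using h7)).elim
      · obtain ⟨j, rfl | rfl⟩ := Int.even_or_odd' i
        · left; rw [zpow_add_one, ← mul_assoc, show (2 : ℤ) * 2 = 4 from rfl, h3, one_mul]
        · right; rw [show 2 * (2 * j + 1) + 1 = 4 * (j + 1) - 1 by ring, zpow_sub_one, h3, one_mul]
    rcases h5 with h5 | h5
    · exact hC (mem_centralizer_singleton_iff.2 (by rw [← mul_inv_eq_iff_eq_mul, ← hk]; exact h5))
    · have h6 := h.refl_conj_of_pow_four hv h4 0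
      rw [← mul_inv_cancel_left (a ^ (0 : ℤ) * b) g]
      refine mul_mem (hD (h.refl_mem 0)) (hC (mem_centralizer_singleton_iff.2 ?_))
      rw [← h5, hk] at h6
      rw [mul_assoc, inv_mul_eq_iff_eq_mul, ← mul_assoc, ← mul_assoc, h6, inv_mul_cancel_right]
  · rw [← Block.centralizer_zpowers, ← grp_sec]
    exact mem_centralizer_of_odd_of_isCyclic (ω₀.sec v).pgrp (grp_sec v ▸ inferInstance)
      (stabilizer_le_normalizer _ hx) (Nat.odd_iff.2 (by omega))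

omit h in
open Classical in
theorem IndLoc.norm_four {Φ : (ω₀.grp → ℂ) → G → ℂ} (hΦ : IndLoc B ω₀ ω Φ) {η : ω₀.grp → ℂ}
    (hη : Adm ω₀ ω η) (h4 : classInner η η = 4)
    (h2 : ∀ ξ : IrrCharacter ω₀.grp, ∃ n : ℤ, classInner η ξ = (ξ : ω₀.grp → ℂ) 1 + 2 * n) :
    #(hzero B) = 4 ∧ (∀ χ ∈ hzero B, co (Φ η) χ ^ 2 = 1) ∧
      ∀ χ ∈ irrs B \ hzero B, co (Φ η) χ = 0 :=
  Tame.norm_four hzero_subset (hzero_nonempty hm.blk.nonempty) (iff_mem_hzero fun χ hχ =>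
    (not_dvd_co_iff (p := 2) (hΦ.gspan η hη).gen).trans (hΦ.par η hη h2 χ hχ))
    (sum_co_sq (hΦ.gspan η hη) ((hΦ.inner η η hη hη).trans (h4.trans (by norm_num))))

omit hm in
theorem orderOf_of_neg_one_zpow {i : ℤ} (hi : (-1 : ℂˣ) ^ i ≠ 1) :
    orderOf (a ^ i) = 2 ^ (μ + 1) := by
  obtain ⟨k, rfl⟩ := Int.not_even_iff_odd.1 fun h => hi h.neg_one_zpow
  refine orderOf_eq_prime_pow (fun e => ?_) (by
    rw [← zpow_natCast, ← zpow_mul, h.zpow_eq_one_iff]; exact ⟨2 * k + 1, by push_cast; ring⟩)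
  rw [← zpow_natCast, ← zpow_mul, h.zpow_eq_one_iff,
    show (2 * k + 1) * ((2 ^ μ : ℕ) : ℤ) = 2 ^ μ * (2 * (k + 1) - 1) by push_cast; ring] at e
  have := Int.le_of_dvd (by positivity) (two_pow_dvd_of_dvd_mul e)
  rw [pow_le_pow_iff_right₀ (by norm_num)] at this
  omega

open Classical in
theorem exists_alpha (hμ : μ ≠ 0) : ∃ α : G → ℂ, GSpan B α ∧ #(hzero B) = 4 ∧
    (∀ χ ∈ hzero B, co α χ ^ 2 = 1) ∧ (∀ χ ∈ irrs B \ hzero B, co α χ = 0) ∧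
    ∀ g, α g ≠ 0 → orderOf (pPart 2 g) = 2 ^ (μ + 1) := by
  obtain ⟨ν, rfl⟩ := Nat.exists_eq_add_one_of_ne_zero hμ
  have h1 : ∀ j : ℕ, j ≤ ν + 1 → ¬ (2 : ℤ) ^ (ν + 1 + 1) ∣ 2 ^ j := fun j hj e => by
    have := Int.le_of_dvd (by positivity) e
    rw [pow_le_pow_iff_right₀ (by norm_num)] at this
    omega
  obtain ⟨Φ, hΦ⟩ := exists_indLoc_sec hm h (v := ⟨_, h.zpow_mem (2 ^ ν)⟩)
    (zpow_mem (mem_zpowers a) _) (fun e => h1 ν ν.le_succ
      (h.zpow_eq_one_iff.1 (congrArg Subtype.val e)))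
    (by rw [← zpow_natCast, ← zpow_mul, h.zpow_eq_one_iff]; exact ⟨1, by push_cast; ring⟩)
    (Or.inl fun e => h1 ν ν.le_succ (by
      have := h.zpow_eq_iff.1 e.symm
      rwa [show (2 : ℤ) ^ (ν + 1) - 2 ^ ν = 2 ^ ν by rw [pow_succ]; ring] at this))
  obtain ⟨η, hη⟩ := exists_eta (mc_top h)
  have h2 : (-1 : ℂˣ) ^ 2 ^ (ν + 1 + 1) = 1 := Even.neg_one_pow (by simp [Nat.even_pow])
  obtain ⟨h3, h4, -, h5, h6⟩ := hη (-1) h2
  have h7 : (-1 : ℂˣ) ≠ 1 := by simp [Units.ext_iff]; norm_num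
  have h8 : Adm ω₀ (ω₀.sec ⟨_, h.zpow_mem (2 ^ ν)⟩) (η (-1)) := ⟨h3, fun u hu => by
    obtain ⟨i, rfl, hi⟩ := h4 u hu
    rw [grp_sec, zpowers_le, Subgroup.coe_zpow, zpowers_eq_of_orderOf_eq (zpow_mem (mem_zpowers a) i)
      (mem_zpowers a) ((orderOf_of_neg_one_zpow h hi).trans h.ord.symm)]
    exact zpow_mem (mem_zpowers a) _⟩
  obtain ⟨k, hk⟩ := h.four
  obtain ⟨h9, h10, h11⟩ := hΦ.norm_four hm h8 (by
    rw [h5 _ h2 h7 h7, if_pos rfl, if_pos (Odd.neg_one_zpow ⟨2 * k - 1, by omega⟩).symm]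
    norm_num) (h6 rfl)
  refine ⟨_, hΦ.gspan _ h8, h9, h10, h11, fun g hg => ?_⟩
  obtain ⟨u, hu, e⟩ := hΦ.supp _ h8 g hg
  obtain ⟨i, rfl, hi⟩ := h4 u hu
  rw [orderOf_eq_of_isConj e, Subgroup.coe_zpow, orderOf_of_neg_one_zpow h hi]

omit hm h in
open Classical in
/-- The involutions of the group of a pair. -/
noncomputable abbrev invs (ω₀ : Prs G 2 M) [Fintype ω₀.grp] : Finset ω₀.grp :=
  {u | u ≠ 1 ∧ (u : G) * u = 1}

omit hm h in
open Classical in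
/-- The number of fusion classes of elements of order four. -/
noncomputable def cfour (ω₀ : Prs G 2 M) [Fintype ω₀.grp] : ℂ :=
  ∑ u ∈ {u : ω₀.grp | (u : G) * u ≠ 1 ∧ (u : G) ^ 4 = 1}, (ω₀.cls u : ℂ)⁻¹

omit hm h in
theorem pow_four_of_mul_self {x : G} (h : x * x = 1) : x ^ 4 = 1 := by
  rw [show 4 = 2 * 2 from rfl, pow_mul, sq x, h, one_pow]

omit hm h in
theorem Fus.mul_self_iff (e : ω₀.Fus u v) : (u : G) * u = 1 ↔ (v : G) * v = 1 := by
  rw [← sq, ← sq, ← orderOf_dvd_iff_pow_eq_one, ← orderOf_dvd_iff_pow_eq_one,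
    orderOf_eq_of_isConj e.isConj]

omit hm h in
theorem Fus.pow_four_iff (e : ω₀.Fus u v) : (u : G) ^ 4 = 1 ↔ (v : G) ^ 4 = 1 := by
  rw [← orderOf_dvd_iff_pow_eq_one, ← orderOf_dvd_iff_pow_eq_one, orderOf_eq_of_isConj e.isConj]

omit hm h in
theorem mem_invs_of_fus (hu : u ∈ invs ω₀) (e : ω₀.Fus u v) : v ∈ invs ω₀ := by
  simp only [mem_filter_univ] at hu ⊢
  exact ⟨fun h => hu.1 (fus_one_iff.1 (h ▸ e).symm), (Fus.mul_self_iff e).1 hu.2⟩

open Classical in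
theorem sum_cls_of_two {j : ℕ} (hj : j ≤ μ) {U : Finset ω₀.grp}
    (hU : ∀ u, u ∈ U ↔ (u : G) ∈ zpowers a ∧ (u : G) ^ 2 ^ (j + 1) ≠ 1)
    (h2 : ∀ u ∈ U, ω₀.cls u = 2) : ∑ u ∈ U, (ω₀.cls u : ℂ)⁻¹ = 2 ^ μ - 2 ^ j := by
  have h1 := mc_card_filter h (Nat.add_le_add_right hj 1)
  rw [Finset.ext (s₂ := U) fun u => (mem_filter_univ u).trans (hU u).symm] at h1
  have h3 := congrArg (Nat.cast (R := ℂ)) h1
  rw [sum_congr rfl fun u hu => by rw [h2 u hu], sum_const, nsmul_eq_mul]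
  push_cast at h3 ⊢
  linear_combination h3 / 2

theorem sum_cls_split (hμ : μ ≠ 0) (F : ω₀.grp → ℂ) {c d : ℂ}
    (h4 : ∀ u : ω₀.grp, (u : G) * u ≠ 1 → (u : G) ^ 4 = 1 → F u = c)
    (h8 : ∀ u : ω₀.grp, (u : G) ^ 4 ≠ 1 → F u = d) : ∑ u, (ω₀.cls u : ℂ)⁻¹ * F u =
      F 1 + ∑ u ∈ invs ω₀, (ω₀.cls u : ℂ)⁻¹ * F u + cfour ω₀ * c + (2 ^ μ - 2) * d := by
  classical
  have h1 := sum_cls_of_two hm h (j := 1) (by omega) (U := {u | (u : G) ^ 4 ≠ 1})
    (fun u => (mem_filter_univ u).trans ⟨fun h1 => ⟨mc_mem_of_pow_four h u.2 h1, h1⟩, And.right⟩)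
    fun u hu => cls_eq_two_of_pow_four hm h (mem_filter.1 hu).2
  rw [pow_one] at h1
  rw [← h1, cfour, sum_mul, sum_mul, ← one_mul (F 1), ← inv_one, ← Nat.cast_one, ← ω₀.cls_one,
    sum_congr (f := fun u => (ω₀.cls u : ℂ)⁻¹ * c) rfl fun u hu => by
      rw [← h4 u (mem_filter.1 hu).2.1 (mem_filter.1 hu).2.2],
    sum_congr (f := fun u => (ω₀.cls u : ℂ)⁻¹ * d) rfl fun u hu => by
      rw [← h8 u (mem_filter.1 hu).2],
    ← sum_ite_eq_of_mem univ 1 (fun u => (ω₀.cls u : ℂ)⁻¹ * F u) (mem_univ _)]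
  simp only [sum_filter, ← sum_add_distrib]
  refine sum_congr rfl fun u _ => ?_
  by_cases h2 : u = 1
  · simp [h2]
  by_cases h3 : (u : G) * u = 1
  · simp [h2, Ne.symm h2, h3, pow_four_of_mul_self h3]
  by_cases h5 : (u : G) ^ 4 = 1 <;> simp [Ne.symm h2, h3, h5]

theorem rk_eq_one_of_mul_self (h2 : (u : G) * u ≠ 1) : blockRank 2 (ω₀.blkAt u) = 1 :=
  rk_eq_one hm h (fun e => h2 (by simp [e])) (Or.inl fun _ hv e =>
    h2 ((Fus.mul_self_iff hv).2 (e ▸ h.z_mul_self)))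

theorem card_eq_add (hμ : μ ≠ 0) : (Nat.card B : ℂ) = blockRank 2 B +
    ∑ u ∈ invs ω₀, (ω₀.cls u : ℂ)⁻¹ * blockRank 2 (ω₀.blkAt u) + cfour ω₀ + (2 ^ μ - 2) := by
  rw [hm.card_eq_sum, sum_cls_split hm h hμ _ (c := 1) (d := 1)
    (fun u h2 _ => by rw [rk_eq_one_of_mul_self hm h h2, Nat.cast_one])
    fun u h2 => by rw [rk_eq_one_of_mul_self hm h (mt pow_four_of_mul_self h2), Nat.cast_one],
    hm.blockRank_blkAt_one, mul_one, mul_one]

omit hm in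
theorem exists_cfour_eq (hμ : μ ≠ 0) : ∃ n : ℕ, cfour ω₀ = (n + 1 : ℕ) := by
  classical
  obtain ⟨ν, rfl⟩ := Nat.exists_eq_add_one_of_ne_zero hμ
  obtain ⟨X, -, h1, -, -, h2⟩ := exists_transversal (u := ⟨_, h.zpow_mem (2 ^ ν)⟩)
    {u : ω₀.grp | (u : G) * u ≠ 1 ∧ (u : G) ^ 4 = 1} (fun u hu v e => by
      rw [mem_filter_univ, Ne, ← Fus.mul_self_iff e, ← Fus.pow_four_iff e]
      exact (mem_filter.1 hu).2)
    ((mem_filter_univ _).2 ⟨by rw [← zpow_add, ← mul_two, ← pow_succ]; exact h.z_ne_one, by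
      rw [← zpow_natCast, ← zpow_mul, h.zpow_eq_one_iff]; exact ⟨1, by push_cast; ring⟩⟩)
  have h3 := h2 _ (stable_const 1)
  obtain ⟨n, hn⟩ := Nat.exists_eq_add_one_of_ne_zero (card_ne_zero_of_mem h1)
  simp only [mul_one, sum_const, hn, nsmul_eq_mul] at h3
  exact ⟨n, h3⟩

omit hm h in
theorem sum_cls_of_class {U : Finset ω₀.grp} (hU : ∀ v, v ∈ U ↔ ω₀.Fus u v) {F : ω₀.grp → ℂ}
    (hF : ω₀.Stable F) : ∑ v ∈ U, (ω₀.cls v : ℂ)⁻¹ * F v = F u := by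
  classical
  rw [sum_congr (Finset.ext fun v => (hU v).trans (mem_filter_univ v).symm) fun v hv => by
    rw [← hF _ _ (mem_filter.1 hv).2], ← sum_mul, sum_fus_cls_inv, one_mul]

omit h in
theorem stable_rk : ω₀.Stable fun u => blockRank 2 (ω₀.blkAt u) :=
  fun _ _ e => congrArg _ (hm.blockRank_eq_of_fus e)

end Cfsg.Lib.Tame
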